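import Mathlib.Algebra.MvPolynomial.CommRing
import Mathlib.Algebra.Polynomial.AlgebraMap
import Mathlib.Algebra.Polynomial.Div
import Mathlib.LinearAlgebra.Trace
import Mathlib.LinearAlgebra.FiniteDimensional.Lemmas
import Mathlib.LinearAlgebra.Dual.Lemmas
import Mathlib.LinearAlgebra.FreeModule.Finite.Matrix
import Mathlib.RingTheory.Polynomial.Basic
import Mathlib.RingTheory.Ideal.Quotient.Operations
import Mathlib.RingTheory.Noetherian.Basic

/-!
# A bound for homomorphisms from finite colength submodules of modules over a polynomial ring in two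
variables
-/

set_option autoImplicit false

noncomputable section

namespace Groth.Agent.HilbPar45.Bound

universe u v

variable {k : Type u} [Field k]

variable {F Q M : Type v} [AddCommGroup F] [AddCommGroup Q] [AddCommGroup M]
  [Module (MvPolynomial (Fin 2) k) F] [Module (MvPolynomial (Fin 2) k) Q] [Module (MvPolynomial (Fin 2) k) M] [Module k F] [Module k Q] [Module k M]
  [IsScalarTower k (MvPolynomial (Fin 2) k) F] [IsScalarTower k (MvPolynomial (Fin 2) k) Q] [IsScalarTower k (MvPolynomial (Fin 2) k) M]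
  [FiniteDimensional k Q] [FiniteDimensional k M]

/-- Multiplication by a variable as a linear map over the field. -/
def mulX (V : Type v) [AddCommGroup V] [Module (MvPolynomial (Fin 2) k) V] [Module k V] [IsScalarTower k (MvPolynomial (Fin 2) k) V] (i : Fin 2) :
    V →ₗ[k] V where
  toFun x := (MvPolynomial.X i : (MvPolynomial (Fin 2) k)) • x
  map_add' := smul_add _
  map_smul' c x := smul_comm _ c x

/-- A linear map commuting with both variables is linear over the polynomial ring. -/
theorem smul_of_comm {V W : Type v} [AddCommGroup V] [Module (MvPolynomial (Fin 2) k) V] [Module k V] [IsScalarTower k (MvPolynomial (Fin 2) k) V]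
    [AddCommGroup W] [Module (MvPolynomial (Fin 2) k) W] [Module k W] [IsScalarTower k (MvPolynomial (Fin 2) k) W] (h : V →ₗ[k] W)
    (hh : ∀ (i : Fin 2) (x : V), h ((MvPolynomial.X i : (MvPolynomial (Fin 2) k)) • x) = (MvPolynomial.X i : (MvPolynomial (Fin 2) k)) • h x)
    (r : (MvPolynomial (Fin 2) k)) : ∀ x : V, h (r • x) = r • h x := by
  induction r using MvPolynomial.induction_on with
  | C a =>
    intro x
    rw [← MvPolynomial.algebraMap_eq, algebraMap_smul, algebraMap_smul, map_smul]
  | add f g hf hg =>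
    intro x
    rw [add_smul, add_smul, map_add, hf, hg]
  | mul_X f i hf =>
    intro x
    rw [mul_smul, mul_smul, hf, hh]

/-- The first map of the Koszul complex. -/
def kosA : (Q →ₗ[k] M) →ₗ[k] (Q →ₗ[k] M) × (Q →ₗ[k] M) where
  toFun h := (h ∘ₗ mulX Q 0 - mulX M 0 ∘ₗ h, h ∘ₗ mulX Q 1 - mulX M 1 ∘ₗ h)
  map_add' f g := by ext x <;> simp <;> abel
  map_smul' c f := by ext x <;> simp [smul_sub]

/-- The second map of the Koszul complex. -/
def kosB : (Q →ₗ[k] M) × (Q →ₗ[k] M) →ₗ[k] (Q →ₗ[k] M) where
  toFun w := w.1 ∘ₗ mulX Q 1 - mulX M 1 ∘ₗ w.1 - (w.2 ∘ₗ mulX Q 0 - mulX M 0 ∘ₗ w.2)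
  map_add' f g := by ext x; simp; abel
  map_smul' c f := by ext x; simp [smul_sub]

theorem range_kosA_le : LinearMap.range (kosA (k := k) (Q := Q) (M := M)) ≤ LinearMap.ker kosB := by
  rintro _ ⟨h, rfl⟩
  rw [LinearMap.mem_ker]
  ext x
  simp [kosA, kosB, mulX, smul_sub, smul_comm (MvPolynomial.X 1 : (MvPolynomial (Fin 2) k)) (MvPolynomial.X 0 : (MvPolynomial (Fin 2) k))]
  abel

/-- The trace pairing. -/
def pairT : (M →ₗ[k] Q) →ₗ[k] Module.Dual k (Q →ₗ[k] M) where
  toFun w :=
    { toFun := fun u => LinearMap.trace k Q (w ∘ₗ u)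
      map_add' := fun a b => by rw [LinearMap.comp_add, map_add]
      map_smul' := fun c a => by rw [LinearMap.comp_smul, map_smul]; rfl }
  map_add' a b := by
    ext u
    show LinearMap.trace k Q ((a + b) ∘ₗ u) = LinearMap.trace k Q (a ∘ₗ u) + LinearMap.trace k Q (b ∘ₗ u)
    rw [LinearMap.add_comp, map_add]
  map_smul' c a := by
    ext u
    show LinearMap.trace k Q ((c • a) ∘ₗ u) = c • LinearMap.trace k Q (a ∘ₗ u)
    rw [LinearMap.smul_comp, map_smul]

theorem pairT_apply (w : M →ₗ[k] Q) (u : Q →ₗ[k] M) : pairT w u = LinearMap.trace k Q (w ∘ₗ u) := rfl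

theorem pairT_eq_zero {w : M →ₗ[k] Q} (h : ∀ u, pairT w u = 0) : w = 0 := by
  ext x
  by_contra hne
  obtain ⟨f, hf⟩ := exists_ne_zero_dual_of_ne_zero hne
  refine hf ?_
  have := h (LinearMap.smulRight f x)
  rw [pairT_apply, show w ∘ₗ LinearMap.smulRight f x = LinearMap.smulRight f (w x) by ext y; simp,
    LinearMap.trace_smulRight] at this
  exact this
where
  exists_ne_zero_dual_of_ne_zero {y : Q} (hy : y ≠ 0) : ∃ f : Module.Dual k Q, f y ≠ 0 := by
    by_contra! h
    exact hy ((Module.forall_dual_apply_eq_zero_iff k y).1 h)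

theorem pairT_injective : Function.Injective (pairT (k := k) (Q := Q) (M := M)) :=
  (injective_iff_map_eq_zero _).2 fun _ hw => pairT_eq_zero fun u => by rw [hw]; rfl

/-- Evaluation at generators. -/
theorem finrank_hom_le {V W : Type v} [AddCommGroup V] [Module (MvPolynomial (Fin 2) k) V]
    [AddCommGroup W] [Module (MvPolynomial (Fin 2) k) W] [Module k W] [IsScalarTower k (MvPolynomial (Fin 2) k) W]
    [FiniteDimensional k W] {p : ℕ} (g : Fin p → V) (hg : Submodule.span (MvPolynomial (Fin 2) k) (Set.range g) = ⊤) :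
    Module.Finite k (V →ₗ[(MvPolynomial (Fin 2) k)] W) ∧ Module.finrank k (V →ₗ[(MvPolynomial (Fin 2) k)] W) ≤ p * Module.finrank k W := by
  let ev : (V →ₗ[(MvPolynomial (Fin 2) k)] W) →ₗ[k] (Fin p → W) :=
    { toFun := fun f i => f (g i), map_add' := fun _ _ => rfl, map_smul' := fun _ _ => rfl }
  have hev : Function.Injective ev := fun f f' h =>
    LinearMap.ext_on_range hg fun i => congrFun h i
  refine ⟨Module.Finite.of_injective ev hev, ?_⟩
  refine (LinearMap.finrank_le_finrank_of_injective hev).trans ?_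
  rw [Module.finrank_pi_fintype]
  simp

theorem finrank_coker_kosB_le {p : ℕ} (m : Fin p → M) (hm : Submodule.span (MvPolynomial (Fin 2) k) (Set.range m) = ⊤) :
    Module.finrank k (Q →ₗ[k] M) ≤
      Module.finrank k ↥(LinearMap.range (kosB (k := k) (Q := Q) (M := M))) + p * Module.finrank k Q := by
  let T := (kosB (k := k) (Q := Q) (M := M)).dualMap ∘ₗ pairT
  have hbij : Function.Bijective (pairT (k := k) (Q := Q) (M := M)) := by
    refine ⟨pairT_injective, (LinearMap.injective_iff_surjective_of_finrank_eq_finrank ?_).1 pairT_injective⟩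
    rw [Subspace.dual_finrank_eq, Module.finrank_linearMap, Module.finrank_linearMap, mul_comm]
  obtain ⟨hfin, hle⟩ := finrank_hom_le (k := k) (W := Q) m hm
  have key : ∀ w : ↥(LinearMap.ker T), ∀ (i : Fin 2) (x : M),
      (w : M →ₗ[k] Q) ((MvPolynomial.X i : (MvPolynomial (Fin 2) k)) • x) = (MvPolynomial.X i : (MvPolynomial (Fin 2) k)) • (w : M →ₗ[k] Q) x := by
    rintro ⟨w, hw⟩
    have h0 : ∀ u v, pairT w (kosB (u, v)) = 0 := fun u v =>
      LinearMap.congr_fun (LinearMap.mem_ker.1 hw) (u, v)
    have hz : ∀ i, mulX Q i ∘ₗ w - w ∘ₗ mulX M i = 0 := by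
      intro i
      refine pairT_eq_zero fun u => ?_
      have e : ∀ (j : Fin 2), pairT (mulX Q j ∘ₗ w - w ∘ₗ mulX M j) u =
          pairT w (u ∘ₗ mulX Q j - mulX M j ∘ₗ u) := fun j => by
        rw [pairT_apply, pairT_apply, LinearMap.sub_comp, LinearMap.comp_sub, map_sub, map_sub,
          LinearMap.comp_assoc, ← LinearMap.trace_comp_comm' (mulX Q j) (w ∘ₗ u), LinearMap.comp_assoc,
          LinearMap.comp_assoc]
      rw [e]
      fin_cases i
      · have := h0 0 u
        simp only [kosB, LinearMap.coe_mk, AddHom.coe_mk, LinearMap.zero_comp, LinearMap.comp_zero,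
          sub_zero, zero_sub, map_neg, neg_eq_zero] at this
        exact this
      · have := h0 u 0
        simp only [kosB, LinearMap.coe_mk, AddHom.coe_mk, LinearMap.zero_comp, LinearMap.comp_zero,
          sub_zero] at this
        exact this
    intro i x
    exact (sub_eq_zero.1 (LinearMap.congr_fun (hz i) x)).symm
  let e : ↥(LinearMap.ker T) →ₗ[k] (M →ₗ[(MvPolynomial (Fin 2) k)] Q) :=
    { toFun := fun w =>
        { toFun := w.1, map_add' := map_add _, map_smul' := fun r x => smul_of_comm _ (key w) r x }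
      map_add' := fun _ _ => rfl
      map_smul' := fun _ _ => rfl }
  have he : Function.Injective e := fun a b h => Subtype.ext (LinearMap.ext fun x => LinearMap.congr_fun h x)
  have hker := LinearMap.finrank_le_finrank_of_injective he
  have hT := T.finrank_range_add_finrank_ker
  rw [LinearMap.range_comp_of_range_eq_top _ (LinearMap.range_eq_top.2 hbij.2),
    LinearMap.finrank_range_dualMap_eq_finrank_range, Module.finrank_linearMap] at hT
  rw [Module.finrank_linearMap, mul_comm]
  omega

/-- The main bound. -/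
theorem finrank_hom_submodule_le (π : F →ₗ[(MvPolynomial (Fin 2) k)] Q) (hπ : Function.Surjective π) {p : ℕ} (g : Fin p → F)
    (hg : Submodule.span (MvPolynomial (Fin 2) k) (Set.range g) = ⊤) (m : Fin p → M) (hm : Submodule.span (MvPolynomial (Fin 2) k) (Set.range m) = ⊤) :
    Module.Finite k (↥(LinearMap.ker π) →ₗ[(MvPolynomial (Fin 2) k)] M) ∧
      Module.finrank k (↥(LinearMap.ker π) →ₗ[(MvPolynomial (Fin 2) k)] M) ≤
        p * Module.finrank k M + p * Module.finrank k Q := by
  obtain ⟨hF, hFle⟩ := finrank_hom_le (k := k) (W := M) g hg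
  have : Module.Finite (MvPolynomial (Fin 2) k) F := ⟨hg ▸ Submodule.fg_span (Set.finite_range g)⟩
  have hU : Module.Finite k (↥(LinearMap.ker π) →ₗ[(MvPolynomial (Fin 2) k)] M) := by
    obtain ⟨n, j, hj⟩ := Module.Finite.exists_fin (R := (MvPolynomial (Fin 2) k)) (M := ↥(LinearMap.ker π))
    exact (finrank_hom_le (k := k) (W := M) j hj).1
  refine ⟨hU, ?_⟩
  obtain ⟨s, hs⟩ := (π.restrictScalars k).exists_rightInverse_of_surjective (LinearMap.range_eq_top.2 hπ)
  have hs' : ∀ q, π (s q) = q := fun q => LinearMap.congr_fun hs q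
  have hmem : ∀ (r : (MvPolynomial (Fin 2) k)) (q : Q), r • s q - s (r • q) ∈ LinearMap.ker π := fun r q => by
    simp [hs']
  let c : Fin 2 → Q →ₗ[k] ↥(LinearMap.ker π) := fun i =>
    LinearMap.codRestrict ((LinearMap.ker π).restrictScalars k) (mulX F i ∘ₗ s - s ∘ₗ mulX Q i)
      (fun q => hmem (MvPolynomial.X i) q)
  have hc : ∀ i q, ((c i q : ↥(LinearMap.ker π)) : F) =
      (MvPolynomial.X i : (MvPolynomial (Fin 2) k)) • s q - s ((MvPolynomial.X i : (MvPolynomial (Fin 2) k)) • q) := fun _ _ => rfl
  let Φ : (↥(LinearMap.ker π) →ₗ[(MvPolynomial (Fin 2) k)] M) →ₗ[k] (Q →ₗ[k] M) × (Q →ₗ[k] M) :=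
    { toFun := fun φ => (φ.restrictScalars k ∘ₗ c 0, φ.restrictScalars k ∘ₗ c 1)
      map_add' := fun _ _ => rfl
      map_smul' := fun _ _ => rfl }
  have hΦ : ∀ φ, kosB (Φ φ) = 0 := by
    intro φ
    ext q
    show φ (c 0 ((MvPolynomial.X 1 : (MvPolynomial (Fin 2) k)) • q)) - (MvPolynomial.X 1 : (MvPolynomial (Fin 2) k)) • φ (c 0 q) -
      (φ (c 1 ((MvPolynomial.X 0 : (MvPolynomial (Fin 2) k)) • q)) - (MvPolynomial.X 0 : (MvPolynomial (Fin 2) k)) • φ (c 1 q)) = 0
    rw [← map_smul φ, ← map_smul φ, ← map_sub φ, ← map_sub φ, ← map_sub φ,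
      show c 0 ((MvPolynomial.X 1 : (MvPolynomial (Fin 2) k)) • q) - (MvPolynomial.X 1 : (MvPolynomial (Fin 2) k)) • c 0 q -
        (c 1 ((MvPolynomial.X 0 : (MvPolynomial (Fin 2) k)) • q) - (MvPolynomial.X 0 : (MvPolynomial (Fin 2) k)) • c 1 q) = 0 from ?_, map_zero]
    refine Subtype.ext ?_
    simp only [Submodule.coe_sub, Submodule.coe_smul, hc, smul_sub, ZeroMemClass.coe_zero,
      smul_comm (MvPolynomial.X 1 : (MvPolynomial (Fin 2) k)) (MvPolynomial.X 0 : (MvPolynomial (Fin 2) k))]
    abel
  let Ψ := (LinearMap.range (kosA (k := k) (Q := Q) (M := M))).mkQ ∘ₗ Φ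
  have hrange : Module.finrank k ↥(LinearMap.range Ψ) +
      Module.finrank k ↥(LinearMap.range (kosA (k := k) (Q := Q) (M := M))) ≤
      Module.finrank k ↥(LinearMap.ker (kosB (k := k) (Q := Q) (M := M))) := by
    have hle : LinearMap.range Ψ ≤
        (LinearMap.ker (kosB (k := k) (Q := Q) (M := M))).map (LinearMap.range kosA).mkQ := by
      rintro _ ⟨φ, rfl⟩
      exact ⟨Φ φ, hΦ φ, rfl⟩
    let g' := (LinearMap.range (kosA (k := k) (Q := Q) (M := M))).mkQ.domRestrict (LinearMap.ker kosB)
    have h1 := g'.finrank_range_add_finrank_ker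
    have h2 : LinearMap.ker g' =
        (LinearMap.range kosA).comap (LinearMap.ker (kosB (k := k) (Q := Q) (M := M))).subtype := by
      ext x
      simp [g']
    rw [LinearMap.range_domRestrict, h2,
      (Submodule.comapSubtypeEquivOfLe range_kosA_le).finrank_eq] at h1
    have := Submodule.finrank_mono hle
    omega
  let res : (F →ₗ[(MvPolynomial (Fin 2) k)] M) →ₗ[k] (↥(LinearMap.ker π) →ₗ[(MvPolynomial (Fin 2) k)] M) :=
    { toFun := fun f => f ∘ₗ (LinearMap.ker π).subtype
      map_add' := fun _ _ => rfl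
      map_smul' := fun _ _ => rfl }
  have hker : LinearMap.ker Ψ ≤ LinearMap.range res := by
    intro φ hφ
    obtain ⟨h, hh⟩ := (Submodule.Quotient.mk_eq_zero _).1 hφ
    have h0 : ∀ (i : Fin 2) (q : Q),
        φ (c i q) = h ((MvPolynomial.X i : (MvPolynomial (Fin 2) k)) • q) - (MvPolynomial.X i : (MvPolynomial (Fin 2) k)) • h q := by
      intro i q
      fin_cases i
      · exact (LinearMap.congr_fun (congrArg Prod.fst hh) q).symm
      · exact (LinearMap.congr_fun (congrArg Prod.snd hh) q).symm
    let d : F →ₗ[k] ↥(LinearMap.ker π) :=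
      LinearMap.codRestrict ((LinearMap.ker π).restrictScalars k) (LinearMap.id - s ∘ₗ π.restrictScalars k)
        (fun x => by simp [hs'])
    let ψ : F →ₗ[k] M := φ.restrictScalars k ∘ₗ d - h ∘ₗ π.restrictScalars k
    have hψ : ∀ (i : Fin 2) (x : F),
        ψ ((MvPolynomial.X i : (MvPolynomial (Fin 2) k)) • x) = (MvPolynomial.X i : (MvPolynomial (Fin 2) k)) • ψ x := by
      intro i x
      have e : d ((MvPolynomial.X i : (MvPolynomial (Fin 2) k)) • x) = (MvPolynomial.X i : (MvPolynomial (Fin 2) k)) • d x + c i (π x) := by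
        refine Subtype.ext ?_
        show (MvPolynomial.X i : (MvPolynomial (Fin 2) k)) • x - s (π ((MvPolynomial.X i : (MvPolynomial (Fin 2) k)) • x)) =
          (MvPolynomial.X i : (MvPolynomial (Fin 2) k)) • (x - s (π x)) + (c i (π x) : F)
        rw [hc, map_smul, smul_sub]
        abel
      show φ (d ((MvPolynomial.X i : (MvPolynomial (Fin 2) k)) • x)) - h (π ((MvPolynomial.X i : (MvPolynomial (Fin 2) k)) • x)) =
        (MvPolynomial.X i : (MvPolynomial (Fin 2) k)) • (φ (d x) - h (π x))
      rw [e, map_add, map_smul φ, h0, map_smul π, smul_sub]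
      abel
    refine ⟨{ toFun := ψ, map_add' := map_add _, map_smul' := fun r x => smul_of_comm ψ hψ r x }, ?_⟩
    refine LinearMap.ext fun x => ?_
    show φ (d (x : F)) - h (π (x : F)) = φ x
    have hx : π (x : F) = 0 := x.2
    rw [hx, map_zero, sub_zero]
    congr 1
    refine Subtype.ext ?_
    show (x : F) - s (π (x : F)) = x
    rw [hx, map_zero, sub_zero]
  have hres : Module.finrank k ↥(LinearMap.range res) +
      Module.finrank k ↥(LinearMap.ker (kosA (k := k) (Q := Q) (M := M))) ≤ Module.finrank k (F →ₗ[(MvPolynomial (Fin 2) k)] M) := by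
    let a : ↥(LinearMap.ker (kosA (k := k) (Q := Q) (M := M))) →ₗ[k] ↥(LinearMap.ker res) :=
      { toFun := fun h => ⟨({ toFun := h.1
                              map_add' := map_add _
                              map_smul' := fun r x => smul_of_comm h.1 (fun i y => by
                                have h2 := h.2
                                rw [LinearMap.mem_ker] at h2
                                fin_cases i
                                · exact sub_eq_zero.1 (LinearMap.congr_fun (congrArg Prod.fst h2) y)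
                                · exact sub_eq_zero.1 (LinearMap.congr_fun (congrArg Prod.snd h2) y)) r x } :
            Q →ₗ[(MvPolynomial (Fin 2) k)] M) ∘ₗ π, LinearMap.mem_ker.2 (LinearMap.ext fun x => by
          show h.1 (π (x : F)) = 0
          rw [show π (x : F) = 0 from x.2, map_zero])⟩
        map_add' := fun _ _ => rfl
        map_smul' := fun _ _ => rfl }
    have ha : Function.Injective a := fun h h' e => Subtype.ext (LinearMap.ext fun q => by
      obtain ⟨x, rfl⟩ := hπ q
      exact LinearMap.congr_fun (congrArg Subtype.val e) x)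
    have := LinearMap.finrank_le_finrank_of_injective ha
    have := res.finrank_range_add_finrank_ker
    omega
  have e1 := Ψ.finrank_range_add_finrank_ker
  have e2 := Submodule.finrank_mono hker
  have e3 := (kosA (k := k) (Q := Q) (M := M)).finrank_range_add_finrank_ker
  have e4 := (kosB (k := k) (Q := Q) (M := M)).finrank_range_add_finrank_ker
  have e5 := finrank_coker_kosB_le (k := k) (Q := Q) m hm
  rw [Module.finrank_prod] at e4
  omega

end Groth.Agent.HilbPar45.Bound
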