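import Mathlib.LinearAlgebra.Dimension.Constructions
import Mathlib.LinearAlgebra.FiniteDimensional.Lemmas
import Mathlib.LinearAlgebra.Matrix.Rank
import Mathlib.LinearAlgebra.Matrix.DotProduct

/-!
# A duality for relative cochain complexes of planar staircase regions
-/

set_option autoImplicit false

noncomputable section

namespace Groth.Agent.HilbPar45.Planar

universe u

variable {k : Type u} [Field k]

/-- One step in the first direction. -/
abbrev sx (P : ℕ × ℕ) : ℕ × ℕ := (P.1 + 1, P.2)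

/-- One step in the second direction. -/
abbrev sy (P : ℕ × ℕ) : ℕ × ℕ := (P.1, P.2 + 1)

/-- Functions on `ℕ × ℕ` vanishing outside a finite set. -/
def Sup (k : Type u) [Field k] (A : Finset (ℕ × ℕ)) : Submodule k (ℕ × ℕ → k) where
  carrier := {u | ∀ P, P ∉ A → u P = 0}
  zero_mem' := fun _ _ => rfl
  add_mem' := fun {u v} hu hv P hP => by simp [hu P hP, hv P hP]
  smul_mem' := fun c u hu P hP => by simp [hu P hP]

theorem mem_Sup {A : Finset (ℕ × ℕ)} {u : ℕ × ℕ → k} : u ∈ Sup k A ↔ ∀ P, P ∉ A → u P = 0 := Iff.rfl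

/-- Functions supported in a finite set are functions on it. -/
def supEquiv (A : Finset (ℕ × ℕ)) : ↥(Sup k A) ≃ₗ[k] (↥A → k) where
  toFun u P := (u : ℕ × ℕ → k) P
  invFun w := ⟨fun P => if h : P ∈ A then w ⟨P, h⟩ else 0, fun P hP => dif_neg hP⟩
  map_add' _ _ := rfl
  map_smul' _ _ := rfl
  left_inv u := Subtype.ext (funext fun P => by
    by_cases h : P ∈ A
    · simp [h]
    · simp [h, u.2 P h])
  right_inv w := funext fun P => by simp

theorem finrank_Sup (A : Finset (ℕ × ℕ)) : Module.finrank k ↥(Sup k A) = A.card := by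
  rw [(supEquiv A).finrank_eq, Module.finrank_pi, Fintype.card_coe]

instance (A : Finset (ℕ × ℕ)) : Module.Finite k ↥(Sup k A) :=
  Module.Finite.equiv (supEquiv A).symm

/-- The first differential. -/
def d0 : (ℕ × ℕ → k) →ₗ[k] (ℕ × ℕ → k) × (ℕ × ℕ → k) where
  toFun u := (fun P => u (sx P) - u P, fun P => u (sy P) - u P)
  map_add' u v := by ext P <;> simp <;> ring
  map_smul' c u := by ext P <;> simp <;> ring

/-- The second differential. -/
def d1 : (ℕ × ℕ → k) × (ℕ × ℕ → k) →ₗ[k] (ℕ × ℕ → k) where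
  toFun w := fun P => w.1 P + w.2 (sx P) - w.1 (sy P) - w.2 P
  map_add' v w := by ext P; simp; ring
  map_smul' c w := by ext P; simp; ring

theorem d1_d0 (u : ℕ × ℕ → k) : d1 (d0 u) = 0 := by
  ext P
  show u (sx P) - u P + (u (sy (sx P)) - u (sx P)) - (u (sx (sy P)) - u (sy P)) - (u (sy P) - u P) = 0
  show u (sx P) - u P + (u (P.1 + 1, P.2 + 1) - u (sx P)) - (u (P.1 + 1, P.2 + 1) - u (sy P)) -
    (u (sy P) - u P) = 0
  ring

/-- The data of a planar staircase region: `g` is the lower level, `f` the upper level. -/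
structure Data where
  f : ℕ × ℕ → ℤ
  g : ℕ × ℕ → ℤ
  hf : Antitone f
  hg : Antitone g
  G : Finset (ℕ × ℕ)
  hG : ∀ P, P ∈ G ↔ 0 ≤ g P

namespace Data

variable (D : Data)

open Classical in
/-- The vertices of the region. -/
def X0 : Finset (ℕ × ℕ) := D.G.filter fun P => D.g P < D.f P

open Classical in
/-- The horizontal edges of the region. -/
def X1 : Finset (ℕ × ℕ) := D.G.filter fun P => D.g P < D.f (sx P)

open Classical in
/-- The vertical edges of the region. -/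
def Y1 : Finset (ℕ × ℕ) := D.G.filter fun P => D.g P < D.f (sy P)

open Classical in
/-- The squares of the region. -/
def X2 : Finset (ℕ × ℕ) := D.G.filter fun P => D.g P < D.f (sx (sy P))

theorem down {P Q : ℕ × ℕ} (h : P ≤ Q) (hQ : Q ∈ D.G) : P ∈ D.G :=
  (D.hG P).2 (((D.hG Q).1 hQ).trans (D.hg h))

theorem le_sx (P : ℕ × ℕ) : P ≤ sx P := ⟨Nat.le_succ _, le_rfl⟩

theorem le_sy (P : ℕ × ℕ) : P ≤ sy P := ⟨le_rfl, Nat.le_succ _⟩

theorem notMem_sx {P : ℕ × ℕ} (h : P ∉ D.G) : sx P ∉ D.G := fun h' => h (D.down (le_sx P) h')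

theorem notMem_sy {P : ℕ × ℕ} (h : P ∉ D.G) : sy P ∉ D.G := fun h' => h (D.down (le_sy P) h')

theorem d0_mem {u : ℕ × ℕ → k} (hu : u ∈ Sup k D.G) : d0 u ∈ (Sup k D.G).prod (Sup k D.G) :=
  ⟨fun P hP => by show u (sx P) - u P = 0; rw [hu P hP, hu _ (D.notMem_sx hP), sub_self],
    fun P hP => by show u (sy P) - u P = 0; rw [hu P hP, hu _ (D.notMem_sy hP), sub_self]⟩

theorem d0_inj {u : ℕ × ℕ → k} (hu : u ∈ Sup k D.G) (h : d0 u = 0) : u = 0 := by
  funext P
  have hx : ∀ Q : ℕ × ℕ, u (sx Q) = u Q := fun Q =>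
    sub_eq_zero.1 (congrFun (congrArg Prod.fst h) Q)
  have ht : ∀ t : ℕ, u (P.1 + t, P.2) = u P := by
    intro t
    induction t with
    | zero => rfl
    | succ t ih => rw [← ih]; exact hx (P.1 + t, P.2)
  set N := D.G.sup Prod.fst + 1
  rw [Pi.zero_apply, ← ht N]
  refine hu _ fun hmem => ?_
  have := Finset.le_sup (f := Prod.fst) hmem
  simp only at this
  omega

theorem d1_surj {η : ℕ × ℕ → k} (hη : η ∈ Sup k D.G) :
    ∃ w ∈ (Sup k D.G).prod (Sup k D.G), d1 w = η := by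
  set N := D.G.sup Prod.snd + 1 with hN
  refine ⟨(fun P => ∑ t ∈ Finset.range N, η (P.1, P.2 + t), 0), ⟨fun P hP => ?_, zero_mem _⟩, ?_⟩
  · show (∑ t ∈ Finset.range N, η (P.1, P.2 + t)) = 0
    exact Finset.sum_eq_zero fun t _ => hη _ fun h => hP (D.down (show P ≤ (P.1, P.2 + t) from ⟨le_rfl, Nat.le_add_right _ _⟩) h)
  · funext P
    show (∑ t ∈ Finset.range N, η (P.1, P.2 + t)) + 0 - (∑ t ∈ Finset.range N, η (P.1, P.2 + 1 + t)) - 0 = η P
    rw [add_zero, sub_zero, ← Finset.sum_sub_distrib]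
    have hlast : η (P.1, P.2 + N) = 0 := hη _ fun h => by
      have := Finset.le_sup (f := Prod.snd) h
      simp only at this
      omega
    have := Finset.sum_range_sub' (fun t => η (P.1, P.2 + t)) N
    simp only [hlast, sub_zero, add_zero] at this
    rw [← this]
    exact Finset.sum_congr rfl fun t _ => by rw [add_assoc, add_comm 1 t]

/-- Cochains of degree one. -/
abbrev C1 (k : Type u) [Field k] (A B : Finset (ℕ × ℕ)) : Submodule k ((ℕ × ℕ → k) × (ℕ × ℕ → k)) :=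
  (Sup k A).prod (Sup k B)

/-- The product of submodules is the product of the modules. -/
def prodEquiv (A B : Finset (ℕ × ℕ)) : ↥(C1 k A B) ≃ₗ[k] ↥(Sup k A) × ↥(Sup k B) where
  toFun w := (⟨w.1.1, w.2.1⟩, ⟨w.1.2, w.2.2⟩)
  invFun w := ⟨(w.1.1, w.2.1), w.1.2, w.2.2⟩
  map_add' _ _ := rfl
  map_smul' _ _ := rfl

theorem finrank_C1 (A B : Finset (ℕ × ℕ)) : Module.finrank k ↥(C1 k A B) = A.card + B.card := by
  rw [(prodEquiv A B).finrank_eq, Module.finrank_prod, finrank_Sup, finrank_Sup]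

instance (A B : Finset (ℕ × ℕ)) : Module.Finite k ↥(C1 k A B) :=
  Module.Finite.equiv (prodEquiv A B).symm

theorem exact_G {w : (ℕ × ℕ → k) × (ℕ × ℕ → k)} (hw : w ∈ C1 k D.G D.G) (h : d1 w = 0) :
    ∃ u ∈ Sup k D.G, d0 u = w := by
  let e0 : ↥(Sup k D.G) →ₗ[k] ↥(C1 k D.G D.G) := d0.restrict fun u hu => D.d0_mem hu
  have h1 : ∀ w ∈ C1 k D.G D.G, d1 w ∈ Sup k D.G := fun w hw P hP => by
    show w.1 P + w.2 (sx P) - w.1 (sy P) - w.2 P = 0
    rw [hw.1 P hP, hw.2 P hP, hw.1 _ (D.notMem_sy hP), hw.2 _ (D.notMem_sx hP)]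
    simp
  let e1 : ↥(C1 k D.G D.G) →ₗ[k] ↥(Sup k D.G) := d1.restrict h1
  have hsurj : LinearMap.range e1 = ⊤ := LinearMap.range_eq_top.2 fun η => by
    obtain ⟨w, hw, he⟩ := D.d1_surj η.2
    exact ⟨⟨w, hw⟩, Subtype.ext he⟩
  have hinj : Function.Injective e0 := by
    rw [← LinearMap.ker_eq_bot, Submodule.eq_bot_iff]
    intro u hu
    exact Subtype.ext (D.d0_inj u.2 (congrArg Subtype.val hu))
  have hle : LinearMap.range e0 ≤ LinearMap.ker e1 := by
    rintro _ ⟨u, rfl⟩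
    exact Subtype.ext (d1_d0 _)
  have hdim := e1.finrank_range_add_finrank_ker
  rw [hsurj, finrank_top, finrank_C1, finrank_Sup] at hdim
  have heq := Submodule.eq_of_le_of_finrank_eq hle
    (by rw [LinearMap.finrank_range_of_inj hinj, finrank_Sup]; omega)
  have hmem : (⟨w, hw⟩ : ↥(C1 k D.G D.G)) ∈ LinearMap.ker e1 := Subtype.ext h
  rw [← heq] at hmem
  obtain ⟨u, hu⟩ := hmem
  exact ⟨u, u.2, congrArg Subtype.val hu⟩

/-- The complementary horizontal edges. -/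
def E1 : Finset (ℕ × ℕ) := D.G \ D.X1

/-- The complementary vertical edges. -/
def F1 : Finset (ℕ × ℕ) := D.G \ D.Y1

/-- The complementary vertices. -/
def K0 : Finset (ℕ × ℕ) := D.G \ D.X0

/-- The complementary squares. -/
def K2 : Finset (ℕ × ℕ) := D.G \ D.X2

theorem mem_K2 {P : ℕ × ℕ} : P ∈ D.K2 ↔ P ∈ D.G ∧ D.f (sx (sy P)) ≤ D.g P := by
  simp only [K2, X2, Finset.mem_sdiff, Finset.mem_filter, not_and, not_lt]; tauto

theorem mem_E1 {P : ℕ × ℕ} : P ∈ D.E1 ↔ P ∈ D.G ∧ D.f (sx P) ≤ D.g P := by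
  simp only [E1, X1, Finset.mem_sdiff, Finset.mem_filter, not_and, not_lt]; tauto

theorem mem_F1 {P : ℕ × ℕ} : P ∈ D.F1 ↔ P ∈ D.G ∧ D.f (sy P) ≤ D.g P := by
  simp only [F1, Y1, Finset.mem_sdiff, Finset.mem_filter, not_and, not_lt]; tauto

theorem mem_K0 {P : ℕ × ℕ} : P ∈ D.K0 ↔ P ∈ D.G ∧ D.f P ≤ D.g P := by
  simp only [K0, X0, Finset.mem_sdiff, Finset.mem_filter, not_and, not_lt]; tauto

theorem mem_X0 {P : ℕ × ℕ} : P ∈ D.X0 ↔ P ∈ D.G ∧ D.g P < D.f P := by
  simp [X0]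

theorem d1_memK2 {w : (ℕ × ℕ → k) × (ℕ × ℕ → k)} (hw : w ∈ C1 k D.E1 D.F1) : d1 w ∈ Sup k D.K2 := by
  intro P hP
  show w.1 P + w.2 (sx P) - w.1 (sy P) - w.2 P = 0
  rw [D.mem_K2] at hP
  have h1 := D.hf (show sx P ≤ sx (sy P) from ⟨le_rfl, Nat.le_succ _⟩)
  have h2 := D.hf (show sy P ≤ sx (sy P) from ⟨Nat.le_succ _, le_rfl⟩)
  have g1 := D.hg (le_sx P)
  have g2 := D.hg (le_sy P)
  rw [hw.1 P fun h => hP ⟨((D.mem_E1).1 h).1, by have := ((D.mem_E1).1 h).2; omega⟩,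
    hw.2 P fun h => hP ⟨((D.mem_F1).1 h).1, by have := ((D.mem_F1).1 h).2; omega⟩,
    hw.1 (sy P) fun h => hP ⟨D.down (le_sy P) ((D.mem_E1).1 h).1, by
      have := ((D.mem_E1).1 h).2
      have : D.f (sx (sy P)) ≤ D.g (sy P) := this
      omega⟩,
    hw.2 (sx P) fun h => hP ⟨D.down (le_sx P) ((D.mem_F1).1 h).1, by
      have := ((D.mem_F1).1 h).2
      have : D.f (sx (sy P)) ≤ D.g (sx P) := this
      omega⟩]
  simp

/-- Relative zero-cocycles of the region. -/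
def V (k : Type u) [Field k] : Submodule k (ℕ × ℕ → k) where
  carrier := {u | (∀ P, P ∉ D.X0 → u P = 0) ∧ (∀ P ∈ D.X1, u (sx P) = u P) ∧ ∀ P ∈ D.Y1, u (sy P) = u P}
  zero_mem' := ⟨fun _ _ => rfl, fun _ _ => rfl, fun _ _ => rfl⟩
  add_mem' := fun {u v} hu hv => ⟨fun P h => by simp [hu.1 P h, hv.1 P h],
    fun P h => by simp [hu.2.1 P h, hv.2.1 P h], fun P h => by simp [hu.2.2 P h, hv.2.2 P h]⟩
  smul_mem' := fun c u hu => ⟨fun P h => by simp [hu.1 P h],
    fun P h => by simp [hu.2.1 P h], fun P h => by simp [hu.2.2 P h]⟩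

/-- The annihilator of the boundaries among the functions on complementary squares. -/
def Ann (k : Type u) [Field k] : Submodule k (ℕ × ℕ → k) where
  carrier := {φ | (∀ P, P ∉ D.K2 → φ P = 0) ∧
    (∀ P ∈ D.E1, φ P = if P.2 = 0 then 0 else φ (P.1, P.2 - 1)) ∧
    ∀ P ∈ D.F1, φ P = if P.1 = 0 then 0 else φ (P.1 - 1, P.2)}
  zero_mem' := ⟨fun _ _ => rfl, fun _ _ => by simp, fun _ _ => by simp⟩
  add_mem' := fun {u v} hu hv => ⟨fun P h => by simp [hu.1 P h, hv.1 P h],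
    fun P h => by simp only [Pi.add_apply, hu.2.1 P h, hv.2.1 P h]; split <;> simp,
    fun P h => by simp only [Pi.add_apply, hu.2.2 P h, hv.2.2 P h]; split <;> simp⟩
  smul_mem' := fun c u hu => ⟨fun P h => by simp [hu.1 P h],
    fun P h => by simp only [Pi.smul_apply, hu.2.1 P h]; split <;> simp,
    fun P h => by simp only [Pi.smul_apply, hu.2.2 P h]; split <;> simp⟩

/-- Functions supported on the region glued to functions on the complementary vertices. -/
def splitMap : ↥(D.V k) × ↥(Sup k D.K0) →ₗ[k] (ℕ × ℕ → k) where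
  toFun x := (x.1 : ℕ × ℕ → k) + x.2
  map_add' x y := by simp; abel
  map_smul' c x := by simp

theorem split_range (u : ℕ × ℕ → k) :
    u ∈ LinearMap.range (D.splitMap (k := k)) ↔ u ∈ Sup k D.G ∧ d0 u ∈ C1 k D.E1 D.F1 := by
  classical
  have keyx : ∀ P ∈ D.X1, P ∈ D.X0 ∧ sx P ∉ D.K0 := fun P h => by
    simp only [X1, Finset.mem_filter] at h
    refine ⟨D.mem_X0.2 ⟨h.1, h.2.trans_le (D.hf (le_sx P))⟩, fun h' => ?_⟩
    have := (D.mem_K0.1 h').2
    have := D.hg (le_sx P)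
    omega
  have keyy : ∀ P ∈ D.Y1, P ∈ D.X0 ∧ sy P ∉ D.K0 := fun P h => by
    simp only [Y1, Finset.mem_filter] at h
    refine ⟨D.mem_X0.2 ⟨h.1, h.2.trans_le (D.hf (le_sy P))⟩, fun h' => ?_⟩
    have := (D.mem_K0.1 h').2
    have := D.hg (le_sy P)
    omega
  have notK : ∀ P ∈ D.X0, P ∉ D.K0 := fun P h => by simp [K0, h]
  constructor
  · rintro ⟨⟨v, z⟩, rfl⟩
    have hG : D.splitMap (v, z) ∈ Sup k D.G := fun P hP => by
      show (v : ℕ × ℕ → k) P + (z : ℕ × ℕ → k) P = 0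
      rw [v.2.1 P fun h => hP (D.mem_X0.1 h).1, z.2 P fun h => hP (D.mem_K0.1 h).1, add_zero]
    refine ⟨hG, fun P hP => ?_, fun P hP => ?_⟩
    · by_cases hPG : P ∈ D.G
      · have h : P ∈ D.X1 := by_contra fun h => hP (Finset.mem_sdiff.2 ⟨hPG, h⟩)
        show (v : ℕ × ℕ → k) (sx P) + (z : ℕ × ℕ → k) (sx P) - ((v : ℕ × ℕ → k) P + (z : ℕ × ℕ → k) P) = 0
        rw [v.2.2.1 P h, z.2 _ (keyx P h).2, z.2 _ (notK _ (keyx P h).1), sub_self]
      · exact (D.d0_mem hG).1 P hPG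
    · by_cases hPG : P ∈ D.G
      · have h : P ∈ D.Y1 := by_contra fun h => hP (Finset.mem_sdiff.2 ⟨hPG, h⟩)
        show (v : ℕ × ℕ → k) (sy P) + (z : ℕ × ℕ → k) (sy P) - ((v : ℕ × ℕ → k) P + (z : ℕ × ℕ → k) P) = 0
        rw [v.2.2.2 P h, z.2 _ (keyy P h).2, z.2 _ (notK _ (keyy P h).1), sub_self]
      · exact (D.d0_mem hG).2 P hPG
  · rintro ⟨hG, hx, hy⟩
    refine ⟨(⟨fun P => if P ∈ D.X0 then u P else 0, fun P h => if_neg h, fun P h => ?_, fun P h => ?_⟩,
      ⟨fun P => if P ∈ D.K0 then u P else 0, fun P h => if_neg h⟩), ?_⟩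
    · have e : u (sx P) = u P := sub_eq_zero.1 (hx P fun h' => (Finset.mem_sdiff.1 h').2 h)
      show (if sx P ∈ D.X0 then u (sx P) else 0) = if P ∈ D.X0 then u P else 0
      rw [if_pos (keyx P h).1]
      by_cases hs : sx P ∈ D.X0
      · rw [if_pos hs, e]
      · rw [if_neg hs, ← e, hG _ fun h' => (keyx P h).2 (Finset.mem_sdiff.2 ⟨h', hs⟩)]
    · have e : u (sy P) = u P := sub_eq_zero.1 (hy P fun h' => (Finset.mem_sdiff.1 h').2 h)
      show (if sy P ∈ D.X0 then u (sy P) else 0) = if P ∈ D.X0 then u P else 0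
      rw [if_pos (keyy P h).1]
      by_cases hs : sy P ∈ D.X0
      · rw [if_pos hs, e]
      · rw [if_neg hs, ← e, hG _ fun h' => (keyy P h).2 (Finset.mem_sdiff.2 ⟨h', hs⟩)]
    · funext P
      show (if P ∈ D.X0 then u P else 0) + (if P ∈ D.K0 then u P else 0) = u P
      by_cases h : P ∈ D.X0
      · rw [if_pos h, if_neg (notK P h), add_zero]
      · rw [if_neg h, zero_add]
        split
        · rfl
        next h' => exact (hG P fun hm => h' (Finset.mem_sdiff.2 ⟨hm, h⟩)).symm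

theorem split_inj : Function.Injective (D.splitMap (k := k)) := by
  rw [← LinearMap.ker_eq_bot, Submodule.eq_bot_iff]
  rintro ⟨v, z⟩ hx
  have hx' : ∀ P, (v : ℕ × ℕ → k) P + (z : ℕ × ℕ → k) P = 0 := fun P => congrFun hx P
  have hv : (v : ℕ × ℕ → k) = 0 := funext fun P => by
    by_cases h : P ∈ D.X0
    · simpa [z.2 P (fun h' => (Finset.mem_sdiff.1 h').2 h)] using hx' P
    · exact v.2.1 P h
  have hz : (z : ℕ × ℕ → k) = 0 := funext fun P => by simpa [hv] using hx' P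
  exact Prod.ext (Subtype.ext hv) (Subtype.ext hz)

instance : Module.Finite k ↥(D.V k) :=
  Module.Finite.of_injective (Submodule.inclusion (p := D.V k) (p' := Sup k D.X0) fun _ hu => hu.1)
    (Submodule.inclusion_injective _)

/-- The coboundary of the complementary cells. -/
def bd : ↥(C1 k D.E1 D.F1) →ₗ[k] ↥(Sup k D.K2) := d1.restrict fun _ hw => D.d1_memK2 hw

theorem finrank_ker_bd :
    Module.finrank k ↥(LinearMap.ker (D.bd (k := k))) = Module.finrank k ↥(D.V k) + D.K0.card := by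
  have hE : D.E1 ⊆ D.G := Finset.sdiff_subset
  have hF : D.F1 ⊆ D.G := Finset.sdiff_subset
  have hd0 : ∀ x, d0 (D.splitMap x) ∈ C1 k D.E1 D.F1 := fun x => ((D.split_range _).1 ⟨x, rfl⟩).2
  let T : ↥(D.V k) × ↥(Sup k D.K0) →ₗ[k] ↥(LinearMap.ker (D.bd (k := k))) :=
    LinearMap.codRestrict _ (LinearMap.codRestrict _ (d0 ∘ₗ D.splitMap) hd0) fun x => Subtype.ext (d1_d0 _)
  have hT : ∀ x, ((T x : ↥(C1 k D.E1 D.F1)) : (ℕ × ℕ → k) × (ℕ × ℕ → k)) = d0 (D.splitMap x) := fun _ => rfl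
  have hinj : Function.Injective T := by
    refine (injective_iff_map_eq_zero T).2 fun x hx => ?_
    refine D.split_inj ((D.d0_inj ((D.split_range _).1 ⟨x, rfl⟩).1 ?_).trans (map_zero _).symm)
    rw [← hT, hx]
    rfl
  have hsurj : Function.Surjective T := fun w => by
    obtain ⟨u, hu, he⟩ := D.exact_G (w := w.1.1)
      ⟨fun P hP => w.1.2.1 P fun h => hP (hE h), fun P hP => w.1.2.2 P fun h => hP (hF h)⟩
      (congrArg Subtype.val w.2)
    obtain ⟨x, hx⟩ := (D.split_range u).2 ⟨hu, he ▸ w.1.2⟩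
    exact ⟨x, Subtype.ext (Subtype.ext (by rw [hT, hx, he]))⟩
  rw [← (LinearEquiv.ofBijective T ⟨hinj, hsurj⟩).finrank_eq, Module.finrank_prod, finrank_Sup]

/-- The pairing of functions on complementary squares. -/
def pair : ↥(Sup k D.K2) ≃ₗ[k] Module.Dual k ↥(Sup k D.K2) :=
  ((supEquiv D.K2).trans (dotProductEquiv k ↥D.K2)).trans (supEquiv D.K2).dualMap

theorem pair_apply (φ η : ↥(Sup k D.K2)) :
    D.pair φ η = ∑ P ∈ D.K2, (φ : ℕ × ℕ → k) P * (η : ℕ × ℕ → k) P := by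
  rw [← Finset.sum_coe_sort (f := fun P => (φ : ℕ × ℕ → k) P * (η : ℕ × ℕ → k) P)]
  rfl

open Classical in
/-- The indicator function of a point. -/
def ind (P : ℕ × ℕ) : ℕ × ℕ → k := fun Q => if Q = P then 1 else 0

theorem ind_mem {A : Finset (ℕ × ℕ)} {P : ℕ × ℕ} (h : P ∈ A) : (ind P : ℕ × ℕ → k) ∈ Sup k A := fun Q hQ => by
  classical
  exact if_neg fun (e : Q = P) => hQ (by rw [e]; exact h)

theorem sum_ind (φ : ℕ × ℕ → k) (hφ : φ ∈ Sup k D.K2) (P : ℕ × ℕ) :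
    ∑ Q ∈ D.K2, φ Q * ind P Q = φ P := by
  classical
  simp only [ind, mul_ite, mul_one, mul_zero, Finset.sum_ite_eq']
  split
  · rfl
  next h => exact (hφ P h).symm

theorem mem_ker_iff (φ : ↥(Sup k D.K2)) :
    φ ∈ LinearMap.ker ((D.bd (k := k)).dualMap ∘ₗ (D.pair (k := k)).toLinearMap) ↔
      (φ : ℕ × ℕ → k) ∈ D.Ann k := by
  classical
  obtain ⟨φ, hφ⟩ := φ
  have key : ∀ (w : ↥(C1 k D.E1 D.F1)), ((D.bd (k := k)).dualMap ∘ₗ (D.pair (k := k)).toLinearMap) ⟨φ, hφ⟩ w =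
      ∑ Q ∈ D.K2, φ Q * d1 w.1 Q := fun w => D.pair_apply ⟨φ, hφ⟩ (D.bd w)
  have hx : ∀ P : ℕ × ℕ, ∑ Q ∈ D.K2, φ Q * d1 ((ind P, 0) : (ℕ × ℕ → k) × (ℕ × ℕ → k)) Q =
      φ P - if P.2 = 0 then 0 else φ (P.1, P.2 - 1) := by
    intro P
    have e : ∀ Q, d1 ((ind P, 0) : (ℕ × ℕ → k) × (ℕ × ℕ → k)) Q = ind P Q - ind P (sy Q) := fun Q => by
      show ind (k := k) P Q + 0 - ind P (sy Q) - 0 = _
      ring
    simp only [e, mul_sub, Finset.sum_sub_distrib, D.sum_ind φ hφ]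
    split
    next h =>
      rw [Finset.sum_eq_zero fun Q _ => ?_]
      simp [ind, show sy Q ≠ P from fun e => by rw [← e] at h; simp at h]
    next h =>
      congr 1
      rw [← D.sum_ind φ hφ (P.1, P.2 - 1)]
      refine Finset.sum_congr rfl fun Q _ => ?_
      simp only [ind, Prod.ext_iff]
      congr 1
      refine if_congr ?_ rfl rfl
      omega
  have hy : ∀ P : ℕ × ℕ, ∑ Q ∈ D.K2, φ Q * d1 ((0, ind P) : (ℕ × ℕ → k) × (ℕ × ℕ → k)) Q =
      (if P.1 = 0 then 0 else φ (P.1 - 1, P.2)) - φ P := by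
    intro P
    have e : ∀ Q, d1 ((0, ind P) : (ℕ × ℕ → k) × (ℕ × ℕ → k)) Q = ind P (sx Q) - ind P Q := fun Q => by
      show (0 : k) + ind P (sx Q) - 0 - ind P Q = _
      ring
    simp only [e, mul_sub, Finset.sum_sub_distrib, D.sum_ind φ hφ]
    split
    next h =>
      rw [Finset.sum_eq_zero fun Q _ => ?_]
      simp [ind, show sx Q ≠ P from fun e => by rw [← e] at h; simp at h]
    next h =>
      congr 1
      rw [← D.sum_ind φ hφ (P.1 - 1, P.2)]
      refine Finset.sum_congr rfl fun Q _ => ?_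
      simp only [ind, Prod.ext_iff]
      congr 1
      refine if_congr ?_ rfl rfl
      omega
  constructor
  · intro h
    refine ⟨hφ, fun P hP => sub_eq_zero.1 ?_, fun P hP => (sub_eq_zero.1 ?_).symm⟩
    · rw [← hx P, ← key ⟨(ind P, 0), ind_mem hP, zero_mem _⟩, LinearMap.mem_ker.1 h]
      rfl
    · rw [← hy P, ← key ⟨(0, ind P), zero_mem _, ind_mem hP⟩, LinearMap.mem_ker.1 h]
      rfl
  · rintro ⟨-, hE, hF⟩
    rw [LinearMap.mem_ker]
    refine LinearMap.ext fun w => ?_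
    rw [key, LinearMap.zero_apply]
    have hdec : w.1 = ∑ P ∈ D.E1, w.1.1 P • ((ind P, 0) : (ℕ × ℕ → k) × (ℕ × ℕ → k)) +
        ∑ P ∈ D.F1, w.1.2 P • ((0, ind P) : (ℕ × ℕ → k) × (ℕ × ℕ → k)) := by
      refine Prod.ext (funext fun Q => ?_) (funext fun Q => ?_) <;>
        simp [Prod.fst_sum, Prod.snd_sum, Finset.sum_apply, ind]
      · exact fun h => w.2.1 Q h
      · exact fun h => w.2.2 Q h
    rw [hdec]
    simp only [map_add, map_sum, map_smul, Pi.add_apply, Finset.sum_apply, Pi.smul_apply, smul_eq_mul,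
      mul_add, Finset.mul_sum, Finset.sum_add_distrib]
    rw [Finset.sum_comm, Finset.sum_eq_zero fun P hP => ?_, Finset.sum_comm, Finset.sum_eq_zero fun P hP => ?_,
      add_zero]
    · simp only [mul_left_comm _ (w.1.2 P), ← Finset.mul_sum, hy, show φ P = _ from hF P hP, sub_self, mul_zero]
    · simp only [mul_left_comm _ (w.1.1 P), ← Finset.mul_sum, hx, show φ P = _ from hE P hP, sub_self, mul_zero]

instance : Module.Finite k ↥(D.Ann k) :=
  Module.Finite.of_injective (Submodule.inclusion (p := D.Ann k) (p' := Sup k D.K2) fun _ hu => hu.1)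
    (Submodule.inclusion_injective _)

theorem finrank_Ann :
    Module.finrank k ↥(D.Ann k) + Module.finrank k ↥(LinearMap.range (D.bd (k := k))) = D.K2.card := by
  let T := (D.bd (k := k)).dualMap ∘ₗ (D.pair (k := k)).toLinearMap
  let e : ↥(LinearMap.ker T) ≃ₗ[k] ↥(D.Ann k) :=
    { toFun := fun φ => ⟨φ.1.1, (D.mem_ker_iff φ.1).1 φ.2⟩
      invFun := fun φ => ⟨⟨φ.1, φ.2.1⟩, (D.mem_ker_iff ⟨φ.1, φ.2.1⟩).2 φ.2⟩
      map_add' := fun _ _ => rfl
      map_smul' := fun _ _ => rfl }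
  have h := T.finrank_range_add_finrank_ker
  rw [LinearMap.range_comp_of_range_eq_top _ (LinearEquiv.range _),
    LinearMap.finrank_range_dualMap_eq_finrank_range, e.finrank_eq, finrank_Sup] at h
  omega

theorem duality :
    (Module.finrank k ↥(D.V k) : ℤ) - Module.finrank k ↥(D.Ann k) =
      (D.X0.card : ℤ) - D.X1.card - D.Y1.card + D.X2.card := by
  classical
  have h1 := (D.bd (k := k)).finrank_range_add_finrank_ker
  rw [D.finrank_ker_bd, finrank_C1] at h1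
  have h2 := D.finrank_Ann (k := k)
  have s0 : D.X0.card ≤ D.G.card := Finset.card_filter_le _ _
  have s1 : D.X1.card ≤ D.G.card := Finset.card_filter_le _ _
  have t1 : D.Y1.card ≤ D.G.card := Finset.card_filter_le _ _
  have s2 : D.X2.card ≤ D.G.card := Finset.card_filter_le _ _
  have a0 : D.K0.card = D.G.card - D.X0.card := Finset.card_sdiff_of_subset (Finset.filter_subset _ _)
  have a1 : D.E1.card = D.G.card - D.X1.card := Finset.card_sdiff_of_subset (Finset.filter_subset _ _)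
  have b1 : D.F1.card = D.G.card - D.Y1.card := Finset.card_sdiff_of_subset (Finset.filter_subset _ _)
  have a2 : D.K2.card = D.G.card - D.X2.card := Finset.card_sdiff_of_subset (Finset.filter_subset _ _)
  omega

end Data

end Groth.Agent.HilbPar45.Planar
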