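import Groth.Agent.H15.HilbTgt.Comp
import Groth.Agent.Lib.HilbPar45.Planar
import Mathlib.LinearAlgebra.FiniteDimensional.Basic

/-!
# The tangent space of a monomial ideal in three variables column by column
-/

set_option autoImplicit false

noncomputable section

namespace Groth.Agent.HilbPar45.Column

open MvPolynomial W4c1hilbpn Groth.Agent.H15.HilbTgt.Basic Groth.Agent.H15.HilbTgt.Comp
open Groth.Agent.HilbPar45.Planar

universe u

variable {k : Type u} [Field k] (e : Fin 3 ≃ Fin 3)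

/-- The exponent with given coordinates in the order `e`. -/
def E (p q c : ℕ) : Fin 3 →₀ ℕ := Finsupp.equivFunOnFinite.symm fun i => ![p, q, c] (e.symm i)

/-- The multidegree with given coordinates in the order `e`. -/
def A (a b c : ℤ) : Fin 3 → ℤ := fun i => ![a, b, c] (e.symm i)

theorem E_apply (p q c : ℕ) (j : Fin 3) : E e p q c (e j) = ![p, q, c] j := by simp [E]

theorem A_apply (a b c : ℤ) (j : Fin 3) : A e a b c (e j) = ![a, b, c] j := by simp [A]

theorem ext_perm {β γ : Fin 3 →₀ ℕ} (h0 : β (e 0) = γ (e 0)) (h1 : β (e 1) = γ (e 1))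
    (h2 : β (e 2) = γ (e 2)) : β = γ :=
  Finsupp.ext fun i => by
    obtain ⟨j, rfl⟩ := e.surjective i
    fin_cases j <;> assumption

theorem E_eq (β : Fin 3 →₀ ℕ) : E e (β (e 0)) (β (e 1)) (β (e 2)) = β :=
  ext_perm e (by simp [E_apply]) (by simp [E_apply]) (by simp [E_apply])

theorem A_eq (α : Fin 3 → ℤ) : A e (α (e 0)) (α (e 1)) (α (e 2)) = α := by
  funext i
  obtain ⟨j, rfl⟩ := e.surjective i
  rw [A_apply]
  fin_cases j <;> rfl

theorem forall_perm {P : Fin 3 → Prop} : (∀ i, P i) ↔ P (e 0) ∧ P (e 1) ∧ P (e 2) := by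
  refine ⟨fun h => ⟨h _, h _, h _⟩, fun h i => ?_⟩
  obtain ⟨j, rfl⟩ := e.surjective i
  fin_cases j
  · exact h.1
  · exact h.2.1
  · exact h.2.2

theorem E_step (p q c : ℕ) :
    E e p q c + Finsupp.single (e 0) 1 = E e (p + 1) q c ∧
      E e p q c + Finsupp.single (e 1) 1 = E e p (q + 1) c ∧
      E e p q c + Finsupp.single (e 2) 1 = E e p q (c + 1) := by
  refine ⟨?_, ?_, ?_⟩ <;> refine ext_perm e ?_ ?_ ?_ <;>
    simp [E_apply]

variable (I : Ideal (MvPolynomial (Fin 3) k))

/-- The staircase number of a column. -/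
def st (P : ℕ × ℕ) : ℕ := Nat.card {c : ℕ // E e P.1 P.2 c ∉ exps I}

variable {I}

/-- A bound for the exponents outside the ideal. -/
def Bound (I : Ideal (MvPolynomial (Fin 3) k)) (N : ℕ) : Prop := ∀ γ, γ ∉ exps I → ∀ i, γ i < N

theorem exists_bound (hI : IsMonomial I) [Module.Finite k (MvPolynomial (Fin 3) k ⧸ I)] : ∃ N, Bound I N := by
  refine ⟨(finite_compl_exps hI).toFinset.sup Finsupp.degree + 1, fun γ hγ i => ?_⟩
  have h1 : γ.degree ≤ (finite_compl_exps hI).toFinset.sup Finsupp.degree :=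
    Finset.le_sup (f := Finsupp.degree) ((finite_compl_exps hI).mem_toFinset.2 hγ)
  have h2 := Finsupp.le_degree i γ
  omega

variable {N : ℕ}

theorem st_iff (hN : Bound I N) (P : ℕ × ℕ) (c : ℕ) : E e P.1 P.2 c ∈ exps I ↔ st e I P ≤ c := by
  classical
  have hex : ∃ b, E e P.1 P.2 b ∈ exps I := ⟨N, by_contra fun h => by
    have := hN _ h (e 2)
    simp [E_apply] at this⟩
  have hset : {c : ℕ | E e P.1 P.2 c ∉ exps I} = Set.Iio (Nat.find hex) := by
    ext c
    simp only [Set.mem_setOf_eq, Set.mem_Iio, Nat.lt_find_iff]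
    refine ⟨fun h b hb hmem => h (exps_mono hmem ?_), fun h => h c le_rfl⟩
    intro i
    obtain ⟨j, rfl⟩ := e.surjective i
    fin_cases j <;> simp [E_apply, hb]
  have hst : st e I P = Nat.find hex := by
    show Nat.card ↥{c : ℕ | E e P.1 P.2 c ∉ exps I} = _
    rw [hset]
    simp
  rw [hst]
  refine ⟨fun h => Nat.find_min' hex h, fun h => exps_mono (Nat.find_spec hex) ?_⟩
  intro i
  obtain ⟨j, rfl⟩ := e.surjective i
  fin_cases j <;> simp [E_apply, h]

theorem st_anti (hN : Bound I N) : Antitone (st e I) := by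
  intro P Q hPQ
  rw [← st_iff e hN]
  refine exps_mono ((st_iff e hN P _).2 le_rfl) fun i => ?_
  obtain ⟨j, rfl⟩ := e.surjective i
  fin_cases j <;> simp [E_apply, hPQ.1, hPQ.2]

theorem st_le (hN : Bound I N) (P : ℕ × ℕ) : st e I P ≤ N := by
  rw [← st_iff e hN]
  exact by_contra fun h => by
    have := hN _ h (e 2)
    simp [E_apply] at this

theorem st_zero (hN : Bound I N) (P : ℕ × ℕ) (h : N ≤ P.1 ∨ N ≤ P.2) : st e I P = 0 := by
  refine Nat.le_zero.1 ((st_iff e hN P 0).1 (by_contra fun h' => ?_))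
  rcases h with h | h
  · have := hN _ h' (e 0); simp [E_apply] at this; omega
  · have := hN _ h' (e 1); simp [E_apply] at this; omega

theorem good_iff (hN : Bound I N) (a b c : ℤ) (p q z : ℕ) :
    Good I (A e a b c) (E e p q z) ↔ st e I (p, q) ≤ z ∧ 0 ≤ (p : ℤ) + a ∧ 0 ≤ (q : ℤ) + b ∧
      0 ≤ (z : ℤ) + c ∧ (z : ℤ) + c < st e I (((p : ℤ) + a).toNat, ((q : ℤ) + b).toNat) := by
  have hnn : (∀ i, 0 ≤ ((E e p q z i : ℕ) : ℤ) + A e a b c i) ↔
      0 ≤ (p : ℤ) + a ∧ 0 ≤ (q : ℤ) + b ∧ 0 ≤ (z : ℤ) + c := by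
    rw [forall_perm e]
    simp [E_apply, A_apply]
  have hsh : shift (E e p q z) (A e a b c) = E e ((p : ℤ) + a).toNat ((q : ℤ) + b).toNat ((z : ℤ) + c).toNat := by
    refine ext_perm e ?_ ?_ ?_ <;> simp [shift, E_apply, A_apply]
  constructor
  · rintro ⟨h1, h2, h3⟩
    obtain ⟨ha, hb, hc⟩ := hnn.1 h2
    rw [hsh, st_iff e hN (_, _)] at h3
    exact ⟨(st_iff e hN (p, q) z).1 h1, ha, hb, hc, by omega⟩
  · rintro ⟨h1, ha, hb, hc, h3⟩
    refine ⟨(st_iff e hN (p, q) z).2 h1, hnn.2 ⟨ha, hb, hc⟩, ?_⟩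
    rw [hsh, st_iff e hN (_, _)]
    omega

variable (hN : Bound I N)

open Classical in
/-- The planar data of the columns over `(a, b)` at height `-(t + 1)`. -/
def dat (a b t : ℕ) : Planar.Data where
  f Q := st e I (Q.1 + a, Q.2 + b)
  g P := (st e I P : ℤ) - (t + 1)
  hf := fun P Q h => Int.ofNat_le.2 (st_anti e hN ⟨Nat.add_le_add_right h.1 a, Nat.add_le_add_right h.2 b⟩)
  hg := fun P Q h => by
    have := st_anti e hN h
    simp only
    omega
  G := (Finset.range N ×ˢ Finset.range N).filter fun P => t + 1 ≤ st e I P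
  hG := fun P => by
    have := st_zero e hN P
    simp only [Finset.mem_filter, Finset.mem_product, Finset.mem_range]
    omega

/-- The pieces negative in the third direction are the relative zero-cocycles. -/
def posEquiv (a b t : ℕ) : ↥(Coef I (A e a b (-((t : ℤ) + 1)))) ≃ₗ[k] ↥((dat e hN a b t).V k) := by
  classical
  let D := dat e hN a b t
  let α := A e a b (-((t : ℤ) + 1))
  have hgood : ∀ p q z : ℕ, Good I α (E e p q z) ↔
      st e I (p, q) ≤ z ∧ t + 1 ≤ z ∧ z < t + 1 + st e I (p + a, q + b) := by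
    intro p q z
    rw [good_iff e hN]
    rw [show ((p : ℤ) + (a : ℤ)).toNat = p + a by omega, show ((q : ℤ) + (b : ℤ)).toNat = q + b by omega]
    constructor
    · rintro ⟨h1, -, -, h2, h3⟩; omega
    · rintro ⟨h1, h2, h3⟩; omega
  have hX0 : ∀ P, P ∈ D.X0 ↔ t + 1 ≤ st e I P ∧ st e I P < t + 1 + st e I (P.1 + a, P.2 + b) := by
    intro P
    rw [D.mem_X0, D.hG]
    show 0 ≤ (st e I P : ℤ) - (t + 1) ∧ (st e I P : ℤ) - (t + 1) < (st e I (P.1 + a, P.2 + b) : ℤ) ↔ _
    omega
  have vert : ∀ (c : ↥(Coef I α)) (p q z : ℕ), Good I α (E e p q z) →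
      (c : (Fin 3 →₀ ℕ) → k) (E e p q z) = (c : (Fin 3 →₀ ℕ) → k) (E e p q (st e I (p, q))) := by
    intro c p q z
    induction z with
    | zero =>
      intro h
      rw [show st e I (p, q) = 0 from Nat.le_zero.1 ((hgood p q 0).1 h).1]
    | succ z ih =>
      intro h
      obtain ⟨h1, h2, h3⟩ := (hgood p q (z + 1)).1 h
      by_cases hz : st e I (p, q) ≤ z
      · have hst := c.2.2 (E e p q z) (e 2) ((st_iff e hN (p, q) z).2 hz)
        rw [(E_step e p q z).2.2] at hst
        rw [hst h]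
        by_cases hg : Good I α (E e p q z)
        · exact ih hg
        · rw [hgood] at hg
          rw [c.2.1 _ (by rw [hgood]; exact hg), c.2.1 _ (by rw [hgood]; omega)]
      · rw [show st e I (p, q) = z + 1 by omega]
  refine
    { toFun := fun c => ⟨fun P => (c : (Fin 3 →₀ ℕ) → k) (E e P.1 P.2 (st e I P)), ⟨?_, ?_, ?_⟩⟩
      invFun := fun u => ⟨fun β => if Good I α β then (u : ℕ × ℕ → k) (β (e 0), β (e 1)) else 0,
        ⟨fun β h => if_neg h, ?_⟩⟩
      map_add' := fun _ _ => rfl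
      map_smul' := fun _ _ => rfl
      left_inv := ?_
      right_inv := ?_ }
  · intro P hP
    refine c.2.1 _ ?_
    rw [hgood]
    rw [hX0] at hP
    simp only [Prod.mk.eta] at *
    omega
  · intro P hP
    simp only [Planar.Data.X1, Finset.mem_filter] at hP
    have h1 : 0 ≤ (st e I P : ℤ) - (t + 1) := (D.hG P).1 hP.1
    have h2 : (st e I P : ℤ) - (t + 1) < (st e I (P.1 + 1 + a, P.2 + b) : ℤ) := hP.2
    have hle := st_anti e hN (Data.le_sx P)
    have h := c.2.2 (E e P.1 P.2 (st e I P)) (e 0) ((st_iff e hN P _).2 le_rfl)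
    rw [(E_step e P.1 P.2 _).1] at h
    have hg : Good I α (E e (P.1 + 1) P.2 (st e I P)) := by
      rw [hgood]
      exact ⟨hle, by omega, by omega⟩
    show (c : (Fin 3 →₀ ℕ) → k) (E e (P.1 + 1) P.2 (st e I (sx P))) = _
    rw [← vert c _ _ _ hg, h hg]
  · intro P hP
    simp only [Planar.Data.Y1, Finset.mem_filter] at hP
    have h1 : 0 ≤ (st e I P : ℤ) - (t + 1) := (D.hG P).1 hP.1
    have h2 : (st e I P : ℤ) - (t + 1) < (st e I (P.1 + a, P.2 + 1 + b) : ℤ) := hP.2
    have hle := st_anti e hN (Data.le_sy P)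
    have h := c.2.2 (E e P.1 P.2 (st e I P)) (e 1) ((st_iff e hN P _).2 le_rfl)
    rw [(E_step e P.1 P.2 _).2.1] at h
    have hg : Good I α (E e P.1 (P.2 + 1) (st e I P)) := by
      rw [hgood]
      exact ⟨hle, by omega, by omega⟩
    show (c : (Fin 3 →₀ ℕ) → k) (E e P.1 (P.2 + 1) (st e I (sy P))) = _
    rw [← vert c _ _ _ hg, h hg]
  · intro β i hβ hs
    show (if Good I α (β + Finsupp.single i 1) then _ else 0) = if Good I α β then _ else 0
    rw [if_pos (show Good I α (β + Finsupp.single i 1) from hs)]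
    obtain ⟨p, q, z, rfl⟩ : ∃ p q z, β = E e p q z := ⟨_, _, _, (E_eq e β).symm⟩
    have hz := (st_iff e hN (p, q) z).1 hβ
    obtain ⟨j, rfl⟩ := e.surjective i
    have hu := u.2
    fin_cases j
    · replace hs : Good I α (E e (p + 1) q z) := (E_step e p q z).1 ▸ hs
      obtain ⟨-, h2, h3⟩ := (hgood _ _ _).1 hs
      have hle := st_anti e hN (show (p + a, q + b) ≤ (p + 1 + a, q + b) from ⟨by omega, le_rfl⟩)
      rw [if_pos ((hgood p q z).2 ⟨hz, h2, by omega⟩)]
      simp only [Fin.zero_eta, Fin.isValue, Finsupp.add_apply, E_apply, Matrix.cons_val_zero,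
        Matrix.cons_val_one, Finsupp.single_eq_same,
        Finsupp.single_eq_of_ne (show e 1 ≠ e 0 by simp), add_zero]
      by_cases hP : t + 1 ≤ st e I (p, q)
      · refine hu.2.1 (p, q) ?_
        simp only [Planar.Data.X1, Finset.mem_filter]
        refine ⟨((dat e hN a b t).hG _).2 ?_, ?_⟩
        · show 0 ≤ (st e I (p, q) : ℤ) - (t + 1)
          omega
        · show (st e I (p, q) : ℤ) - (t + 1) < (st e I (p + 1 + a, q + b) : ℤ)
          omega
      · have hle' : st e I (p + 1, q) ≤ st e I (p, q) := st_anti e hN (Data.le_sx (p, q))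
        rw [hu.1 (p, q) (by rw [hX0]; omega), hu.1 (p + 1, q) (by rw [hX0]; omega)]
    · replace hs : Good I α (E e p (q + 1) z) := (E_step e p q z).2.1 ▸ hs
      obtain ⟨-, h2, h3⟩ := (hgood _ _ _).1 hs
      have hle := st_anti e hN (show (p + a, q + b) ≤ (p + a, q + 1 + b) from ⟨le_rfl, by omega⟩)
      rw [if_pos ((hgood p q z).2 ⟨hz, h2, by omega⟩)]
      simp only [Fin.mk_one, Fin.isValue, Finsupp.add_apply, E_apply, Matrix.cons_val_zero,
        Matrix.cons_val_one, Finsupp.single_eq_same,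
        Finsupp.single_eq_of_ne (show e 0 ≠ e 1 by simp), add_zero]
      by_cases hP : t + 1 ≤ st e I (p, q)
      · refine hu.2.2 (p, q) ?_
        simp only [Planar.Data.Y1, Finset.mem_filter]
        refine ⟨((dat e hN a b t).hG _).2 ?_, ?_⟩
        · show 0 ≤ (st e I (p, q) : ℤ) - (t + 1)
          omega
        · show (st e I (p, q) : ℤ) - (t + 1) < (st e I (p + a, q + 1 + b) : ℤ)
          omega
      · have hle' : st e I (p, q + 1) ≤ st e I (p, q) := st_anti e hN (Data.le_sy (p, q))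
        rw [hu.1 (p, q) (by rw [hX0]; omega), hu.1 (p, q + 1) (by rw [hX0]; omega)]
    · replace hs : Good I α (E e p q (z + 1)) := (E_step e p q z).2.2 ▸ hs
      simp only [Finsupp.add_apply, E_apply, Finsupp.single_eq_of_ne (show e 0 ≠ e 2 by simp),
        Finsupp.single_eq_of_ne (show e 1 ≠ e 2 by simp), add_zero, Matrix.cons_val_zero, Matrix.cons_val_one,
        Fin.reduceFinMk, Fin.isValue]
      by_cases hg : Good I α (E e p q z)
      · rw [if_pos hg]
      · rw [if_neg hg]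
        rw [hgood] at hg
        obtain ⟨-, h2, h3⟩ := (hgood _ _ _).1 hs
        exact hu.1 (p, q) (by rw [hX0]; omega)
  · intro c
    refine Subtype.ext (funext fun β => ?_)
    obtain ⟨p, q, z, rfl⟩ : ∃ p q z, β = E e p q z := ⟨_, _, _, (E_eq e β).symm⟩
    show (if Good I α (E e p q z) then _ else 0) = _
    split
    next h => simp only [E_apply, Matrix.cons_val_zero, Matrix.cons_val_one]; exact (vert c p q z h).symm
    next h => exact (c.2.1 _ h).symm
  · intro u
    refine Subtype.ext (funext fun P => ?_)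
    show (if Good I α (E e P.1 P.2 (st e I P)) then _ else 0) = _
    split
    · simp [E_apply]
    next h =>
      refine (u.2.1 P fun h' => h ?_).symm
      rw [hgood]
      rw [hX0] at h'
      exact ⟨le_rfl, h'.1, h'.2⟩

/-- The pieces negative in the first two directions are annihilators of boundaries. -/
def negEquiv (a b t : ℕ) :
    ↥(Coef I (A e (-((a : ℤ) + 1)) (-((b : ℤ) + 1)) t)) ≃ₗ[k] ↥((dat e hN a b t).Ann k) := by
  classical
  let D := dat e hN a b t
  let α := A e (-((a : ℤ) + 1)) (-((b : ℤ) + 1)) t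
  have hgood : ∀ p q z : ℕ, Good I α (E e p q z) ↔
      a + 1 ≤ p ∧ b + 1 ≤ q ∧ st e I (p, q) ≤ z ∧ z + t + 1 ≤ st e I (p - (a + 1), q - (b + 1)) := by
    intro p q z
    rw [good_iff e hN]
    constructor
    · rintro ⟨h1, h2, h3, h4, h5⟩
      rw [show ((p : ℤ) + -((a : ℤ) + 1)).toNat = p - (a + 1) by omega,
        show ((q : ℤ) + -((b : ℤ) + 1)).toNat = q - (b + 1) by omega] at h5
      omega
    · rintro ⟨h1, h2, h3, h4⟩
      rw [show ((p : ℤ) + -((a : ℤ) + 1)).toNat = p - (a + 1) by omega,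
        show ((q : ℤ) + -((b : ℤ) + 1)).toNat = q - (b + 1) by omega]
      omega
  have hK2 : ∀ P, P ∈ D.K2 ↔ st e I (P.1 + 1 + a, P.2 + 1 + b) + t + 1 ≤ st e I P := by
    intro P
    rw [D.mem_K2, D.hG]
    show 0 ≤ (st e I P : ℤ) - (t + 1) ∧ (st e I (P.1 + 1 + a, P.2 + 1 + b) : ℤ) ≤ (st e I P : ℤ) - (t + 1) ↔ _
    omega
  have hgood' : ∀ (P : ℕ × ℕ) (z : ℕ), Good I α (E e (P.1 + 1 + a) (P.2 + 1 + b) z) ↔
      st e I (P.1 + 1 + a, P.2 + 1 + b) ≤ z ∧ z + t + 1 ≤ st e I P := by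
    intro P z
    rw [hgood, show P.1 + 1 + a - (a + 1) = P.1 by omega, show P.2 + 1 + b - (b + 1) = P.2 by omega]
    exact ⟨fun h => h.2.2, fun h => ⟨by omega, by omega, h⟩⟩
  have vert : ∀ (c : ↥(Coef I α)) (p q z : ℕ), Good I α (E e p q z) →
      (c : (Fin 3 →₀ ℕ) → k) (E e p q z) = (c : (Fin 3 →₀ ℕ) → k) (E e p q (st e I (p, q))) := by
    intro c p q z
    induction z with
    | zero =>
      intro h
      rw [show st e I (p, q) = 0 from Nat.le_zero.1 ((hgood p q 0).1 h).2.2.1]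
    | succ z ih =>
      intro h
      obtain ⟨h1, h2, h3, h4⟩ := (hgood p q (z + 1)).1 h
      by_cases hz : st e I (p, q) ≤ z
      · have hst := c.2.2 (E e p q z) (e 2) ((st_iff e hN (p, q) z).2 hz)
        rw [(E_step e p q z).2.2] at hst
        rw [hst h]
        exact ih ((hgood p q z).2 ⟨h1, h2, hz, by omega⟩)
      · rw [show st e I (p, q) = z + 1 by omega]
  refine
    { toFun := fun c => ⟨fun P => (c : (Fin 3 →₀ ℕ) → k)
          (E e (P.1 + 1 + a) (P.2 + 1 + b) (st e I (P.1 + 1 + a, P.2 + 1 + b))), ⟨?_, ?_, ?_⟩⟩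
      invFun := fun u => ⟨fun β => if Good I α β
          then (u : ℕ × ℕ → k) (β (e 0) - (a + 1), β (e 1) - (b + 1)) else 0, ⟨fun β h => if_neg h, ?_⟩⟩
      map_add' := fun _ _ => rfl
      map_smul' := fun _ _ => rfl
      left_inv := ?_
      right_inv := ?_ }
  · intro P hP
    refine c.2.1 _ ?_
    rw [hgood']
    rw [hK2] at hP
    omega
  · rintro ⟨p, q⟩ hP
    rw [Planar.Data.mem_E1, D.hG] at hP
    have h1 : 0 ≤ (st e I (p, q) : ℤ) - (t + 1) := hP.1
    have h2 : (st e I (p + 1 + a, q + b) : ℤ) ≤ (st e I (p, q) : ℤ) - (t + 1) := hP.2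
    have hle := st_anti e hN (show (p + 1 + a, q + b) ≤ (p + 1 + a, q + 1 + b) from ⟨le_rfl, by omega⟩)
    obtain ⟨z, hz⟩ : ∃ z, z + t + 1 = st e I (p, q) := ⟨st e I (p, q) - (t + 1), by omega⟩
    have h := c.2.2 (E e (p + 1 + a) (q + b) z) (e 1) ((st_iff e hN (_, _) _).2 (by omega))
    rw [(E_step e _ _ _).2.1, show q + b + 1 = q + 1 + b by omega] at h
    have hg : Good I α (E e (p + 1 + a) (q + 1 + b) z) := (hgood' (p, q) z).2 (by dsimp only; omega)
    show (c : (Fin 3 →₀ ℕ) → k) (E e (p + 1 + a) (q + 1 + b) (st e I (p + 1 + a, q + 1 + b))) = _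
    rw [← vert c _ _ _ hg, h hg]
    rcases Nat.eq_zero_or_pos q with rfl | hq
    · rw [if_pos rfl]
      exact c.2.1 _ (by rw [hgood]; omega)
    · obtain ⟨q, rfl⟩ : ∃ r, q = r + 1 := ⟨q - 1, by omega⟩
      rw [if_neg (by simp)]
      have hle := st_anti e hN (Data.le_sy (p, q))
      have hg' : Good I α (E e (p + 1 + a) (q + 1 + b) z) := (hgood' (p, q) z).2
        ⟨by dsimp only; omega, by simp only [sy] at hle; omega⟩
      rw [vert c _ _ _ hg']
      rfl
  · rintro ⟨p, q⟩ hP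
    rw [Planar.Data.mem_F1, D.hG] at hP
    have h1 : 0 ≤ (st e I (p, q) : ℤ) - (t + 1) := hP.1
    have h2 : (st e I (p + a, q + 1 + b) : ℤ) ≤ (st e I (p, q) : ℤ) - (t + 1) := hP.2
    have hle := st_anti e hN (show (p + a, q + 1 + b) ≤ (p + 1 + a, q + 1 + b) from ⟨by omega, le_rfl⟩)
    obtain ⟨z, hz⟩ : ∃ z, z + t + 1 = st e I (p, q) := ⟨st e I (p, q) - (t + 1), by omega⟩
    have h := c.2.2 (E e (p + a) (q + 1 + b) z) (e 0) ((st_iff e hN (_, _) _).2 (by omega))
    rw [(E_step e _ _ _).1, show p + a + 1 = p + 1 + a by omega] at h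
    have hg : Good I α (E e (p + 1 + a) (q + 1 + b) z) := (hgood' (p, q) z).2 (by dsimp only; omega)
    show (c : (Fin 3 →₀ ℕ) → k) (E e (p + 1 + a) (q + 1 + b) (st e I (p + 1 + a, q + 1 + b))) = _
    rw [← vert c _ _ _ hg, h hg]
    rcases Nat.eq_zero_or_pos p with rfl | hp
    · rw [if_pos rfl]
      exact c.2.1 _ (by rw [hgood]; omega)
    · obtain ⟨p, rfl⟩ : ∃ r, p = r + 1 := ⟨p - 1, by omega⟩
      rw [if_neg (by simp)]
      have hle := st_anti e hN (Data.le_sx (p, q))
      have hg' : Good I α (E e (p + 1 + a) (q + 1 + b) z) := (hgood' (p, q) z).2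
        ⟨by dsimp only; omega, by simp only [sx] at hle; omega⟩
      rw [vert c _ _ _ hg']
      rfl
  · intro β i hβ hs
    show (if Good I α (β + Finsupp.single i 1) then _ else 0) = if Good I α β then _ else 0
    rw [if_pos (show Good I α (β + Finsupp.single i 1) from hs)]
    obtain ⟨p, q, z, rfl⟩ : ∃ p q z, β = E e p q z := ⟨_, _, _, (E_eq e β).symm⟩
    have hz := (st_iff e hN (p, q) z).1 hβ
    obtain ⟨j, rfl⟩ := e.surjective i
    have hu := u.2
    fin_cases j
    · replace hs : Good I α (E e (p + 1) q z) := (E_step e p q z).1 ▸ hs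
      obtain ⟨h1, h2, -, h4⟩ := (hgood _ _ _).1 hs
      simp only [Fin.zero_eta, Fin.isValue, Finsupp.add_apply, E_apply, Matrix.cons_val_zero,
        Matrix.cons_val_one, Finsupp.single_eq_same,
        Finsupp.single_eq_of_ne (show e 1 ≠ e 0 by simp), add_zero]
      set Q : ℕ × ℕ := (p + 1 - (a + 1), q - (b + 1)) with hQ
      have hmem : Q ∈ D.F1 := by
        rw [Planar.Data.mem_F1, D.hG]
        refine ⟨?_, ?_⟩
        · show 0 ≤ (st e I Q : ℤ) - (t + 1)
          omega
        · show (st e I (Q.1 + a, Q.2 + 1 + b) : ℤ) ≤ (st e I Q : ℤ) - (t + 1)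
          rw [show Q.1 + a = p by simp [hQ]; omega, show Q.2 + 1 + b = q by simp [hQ]; omega]
          omega
      rw [hu.2.2 Q hmem]
      by_cases hp : a + 1 ≤ p
      · have hle := st_anti e hN (show (p - (a + 1), q - (b + 1)) ≤ Q from ⟨by simp [hQ]; omega, le_rfl⟩)
        rw [if_pos ((hgood p q z).2 ⟨hp, h2, hz, by omega⟩), if_neg (by simp [hQ]; omega)]
        rw [show (Q.1 - 1, Q.2) = (p - (a + 1), q - (b + 1)) from Prod.ext (by simp [hQ]; omega) rfl]
      · rw [if_neg (fun h => hp ((hgood p q z).1 h).1), if_pos (by simp [hQ]; omega)]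
    · replace hs : Good I α (E e p (q + 1) z) := (E_step e p q z).2.1 ▸ hs
      obtain ⟨h1, h2, -, h4⟩ := (hgood _ _ _).1 hs
      simp only [Fin.mk_one, Fin.isValue, Finsupp.add_apply, E_apply, Matrix.cons_val_zero,
        Matrix.cons_val_one, Finsupp.single_eq_same,
        Finsupp.single_eq_of_ne (show e 0 ≠ e 1 by simp), add_zero]
      set Q : ℕ × ℕ := (p - (a + 1), q + 1 - (b + 1)) with hQ
      have hmem : Q ∈ D.E1 := by
        rw [Planar.Data.mem_E1, D.hG]
        refine ⟨?_, ?_⟩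
        · show 0 ≤ (st e I Q : ℤ) - (t + 1)
          omega
        · show (st e I (Q.1 + 1 + a, Q.2 + b) : ℤ) ≤ (st e I Q : ℤ) - (t + 1)
          rw [show Q.1 + 1 + a = p by simp [hQ]; omega, show Q.2 + b = q by simp [hQ]; omega]
          omega
      rw [hu.2.1 Q hmem]
      by_cases hq : b + 1 ≤ q
      · have hle := st_anti e hN (show (p - (a + 1), q - (b + 1)) ≤ Q from ⟨le_rfl, by simp [hQ]; omega⟩)
        rw [if_pos ((hgood p q z).2 ⟨h1, hq, hz, by omega⟩), if_neg (by simp [hQ]; omega)]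
        rw [show (Q.1, Q.2 - 1) = (p - (a + 1), q - (b + 1)) from Prod.ext rfl (by simp [hQ]; omega)]
      · rw [if_neg (fun h => hq ((hgood p q z).1 h).2.1), if_pos (by simp [hQ]; omega)]
    · replace hs : Good I α (E e p q (z + 1)) := (E_step e p q z).2.2 ▸ hs
      obtain ⟨h1, h2, -, h4⟩ := (hgood _ _ _).1 hs
      rw [if_pos ((hgood p q z).2 ⟨h1, h2, hz, by omega⟩)]
      simp [E_apply]
  · intro c
    refine Subtype.ext (funext fun β => ?_)
    obtain ⟨p, q, z, rfl⟩ : ∃ p q z, β = E e p q z := ⟨_, _, _, (E_eq e β).symm⟩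
    show (if Good I α (E e p q z) then _ else 0) = _
    split
    next h =>
      simp only [E_apply, Matrix.cons_val_zero, Matrix.cons_val_one]
      have h' := (hgood _ _ _).1 h
      rw [show p - (a + 1) + 1 + a = p by omega, show q - (b + 1) + 1 + b = q by omega]
      exact (vert c p q z h).symm
    next h => exact (c.2.1 _ h).symm
  · intro u
    refine Subtype.ext (funext fun P => ?_)
    show (if Good I α (E e (P.1 + 1 + a) (P.2 + 1 + b) (st e I (P.1 + 1 + a, P.2 + 1 + b))) then _ else 0) = _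
    split
    · simp only [E_apply, Matrix.cons_val_zero, Matrix.cons_val_one]
      rw [show P.1 + 1 + a - (a + 1) = P.1 by omega, show P.2 + 1 + b - (b + 1) = P.2 by omega]
    next h =>
      refine (u.2.1 P fun h' => h ?_).symm
      rw [hgood']
      rw [hK2] at h'
      exact ⟨le_rfl, h'⟩

theorem sum_card_filter (h : ℕ × ℕ → ℕ) (hh : ∀ P, h P ≤ st e I P) (S : ℕ → Finset (ℕ × ℕ))
    (hS : ∀ t P, P ∈ S t ↔ P ∈ Finset.range N ×ˢ Finset.range N ∧ t + 1 ≤ st e I P ∧ st e I P < t + 1 + h P)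
    (hN : Bound I N) :
    ∑ t ∈ Finset.range N, (S t).card = ∑ P ∈ Finset.range N ×ˢ Finset.range N, h P := by
  classical
  have e1 : ∀ t, (S t).card = ∑ P ∈ Finset.range N ×ˢ Finset.range N,
      if t + 1 ≤ st e I P ∧ st e I P < t + 1 + h P then 1 else 0 := fun t => by
    rw [← Finset.card_filter]
    congr 1
    ext P
    rw [hS, Finset.mem_filter]
  simp only [e1]
  rw [Finset.sum_comm]
  refine Finset.sum_congr rfl fun P _ => ?_
  rw [← Finset.card_filter]
  have : (Finset.range N).filter (fun t => t + 1 ≤ st e I P ∧ st e I P < t + 1 + h P) =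
      Finset.Ico (st e I P - h P) (st e I P) := by
    ext t
    have := st_le e hN P
    have := hh P
    simp only [Finset.mem_filter, Finset.mem_range, Finset.mem_Ico]
    omega
  rw [this, Nat.card_Ico]
  have := hh P
  omega

include hN in
theorem coef_duality (a b : ℕ) :
    ∑ t ∈ Finset.range N, Module.finrank k ↥(Coef I (A e a b (-((t : ℤ) + 1)))) =
      st e I (a, b) + ∑ t ∈ Finset.range N,
        Module.finrank k ↥(Coef I (A e (-((a : ℤ) + 1)) (-((b : ℤ) + 1)) t)) := by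
  classical
  let F : ℕ × ℕ → ℤ := fun Q => st e I (Q.1 + a, Q.2 + b)
  let box := Finset.range N ×ˢ Finset.range N
  have key : ∀ (u : ℕ × ℕ → ℕ × ℕ), (∀ P, P ≤ u P) → ∀ S : ℕ → Finset (ℕ × ℕ),
      (∀ t, S t = (dat e hN a b t).G.filter fun P => (dat e hN a b t).g P < (dat e hN a b t).f (u P)) →
      ∑ t ∈ Finset.range N, ((S t).card : ℤ) = ∑ P ∈ box, F (u P) := by
    intro u hu S hS
    have h := sum_card_filter e (fun P => st e I ((u P).1 + a, (u P).2 + b))
      (fun P => st_anti e hN ⟨le_trans (hu P).1 (Nat.le_add_right _ _), le_trans (hu P).2 (Nat.le_add_right _ _)⟩)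
      S (fun t P => ?_) hN
    · have := congrArg (Nat.cast (R := ℤ)) h
      push_cast at this
      exact this
    · rw [hS, Finset.mem_filter]
      show (P ∈ box.filter fun P => t + 1 ≤ st e I P) ∧
        (st e I P : ℤ) - (t + 1) < (st e I ((u P).1 + a, (u P).2 + b) : ℤ) ↔ _
      rw [Finset.mem_filter]
      constructor
      · rintro ⟨⟨h1, h2⟩, h3⟩
        exact ⟨h1, h2, by omega⟩
      · rintro ⟨h1, h2, h3⟩
        exact ⟨⟨h1, h2⟩, by omega⟩
  have k0 := key id (fun P => le_rfl) (fun t => (dat e hN a b t).X0)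
    (fun t => by unfold Planar.Data.X0; congr!)
  have k1 := key sx Data.le_sx (fun t => (dat e hN a b t).X1) (fun t => by unfold Planar.Data.X1; congr!)
  have k2 := key sy Data.le_sy (fun t => (dat e hN a b t).Y1) (fun t => by unfold Planar.Data.Y1; congr!)
  have k3 := key (fun P => sx (sy P)) (fun P => (Data.le_sy P).trans (Data.le_sx _))
    (fun t => (dat e hN a b t).X2) (fun t => by unfold Planar.Data.X2; congr!)
  have hd : ∀ t : ℕ, (Module.finrank k ↥(Coef I (A e a b (-((t : ℤ) + 1)))) : ℤ) -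
      Module.finrank k ↥(Coef I (A e (-((a : ℤ) + 1)) (-((b : ℤ) + 1)) t)) =
      ((dat e hN a b t).X0.card : ℤ) - (dat e hN a b t).X1.card - (dat e hN a b t).Y1.card +
        (dat e hN a b t).X2.card := fun t => by
    rw [(posEquiv e hN a b t).finrank_eq, (negEquiv e hN a b t).finrank_eq]
    exact (dat e hN a b t).duality
  have hsum := Finset.sum_congr (s₁ := Finset.range N) rfl fun t _ => hd t
  simp only [Finset.sum_sub_distrib, Finset.sum_add_distrib] at hsum
  have hF0 : ∀ Q : ℕ × ℕ, N ≤ Q.1 ∨ N ≤ Q.2 → F Q = 0 := fun Q hQ => by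
    have hz := st_zero e hN (Q.1 + a, Q.2 + b)
      (hQ.imp (fun h => le_add_right h) (fun h => le_add_right h))
    simp [F, hz]
  have tele : ∑ P ∈ box, (F P - F (sx P) - F (sy P) + F (sx (sy P))) = F (0, 0) := by
    rw [Finset.sum_product]
    have inner : ∀ p : ℕ, ∑ q ∈ Finset.range N, (F (p, q) - F (sx (p, q)) - F (sy (p, q)) + F (sx (sy (p, q)))) =
        F (p, 0) - F (p + 1, 0) := fun p => by
      have h := Finset.sum_range_sub' (fun q => F (p, q) - F (p + 1, q)) N
      simp only [hF0 (p, N) (Or.inr le_rfl), hF0 (p + 1, N) (Or.inr le_rfl), sub_zero] at h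
      rw [← h]
      exact Finset.sum_congr rfl fun q _ => by
        show F (p, q) - F (p + 1, q) - F (p, q + 1) + F (p + 1, q + 1) = _
        ring
    simp only [inner]
    rw [Finset.sum_range_sub' (fun p => F (p, 0)), hF0 (N, 0) (Or.inl le_rfl), sub_zero]
  simp only [Finset.sum_sub_distrib, Finset.sum_add_distrib] at tele
  rw [k0, k1, k2, k3] at hsum
  simp only [id] at hsum
  rw [tele] at hsum
  simp only [F, Nat.zero_add] at hsum
  have := hsum
  zify
  omega

include hN in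
theorem coef_pos_eq_zero (a b : ℕ) (c : ℤ) (hc : c < -(N : ℤ)) (x : ↥(Coef I (A e a b c))) : x = 0 := by
  obtain ⟨t, rfl⟩ : ∃ t : ℕ, c = -((t : ℤ) + 1) := ⟨(-c - 1).toNat, by omega⟩
  refine (posEquiv e hN a b t).injective ?_
  rw [map_zero]
  refine Subtype.ext (funext fun P => ((posEquiv e hN a b t) x).2.1 P fun h => ?_)
  have h1 := ((Data.mem_X0 _).1 h).1
  rw [Data.hG] at h1
  have h2 : 0 ≤ (st e I P : ℤ) - (t + 1) := h1
  have := st_le e hN P
  omega

include hN in
theorem coef_neg_eq_zero (a b : ℕ) (c : ℤ) (hc : (N : ℤ) ≤ c)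
    (x : ↥(Coef I (A e (-((a : ℤ) + 1)) (-((b : ℤ) + 1)) c))) : x = 0 := by
  obtain ⟨t, rfl⟩ : ∃ t : ℕ, c = t := ⟨c.toNat, by omega⟩
  refine (negEquiv e hN a b t).injective ?_
  rw [map_zero]
  refine Subtype.ext (funext fun P => ((negEquiv e hN a b t) x).2.1 P fun h => ?_)
  have h1 := ((Data.mem_K2 _).1 h).1
  rw [Data.hG] at h1
  have h2 : 0 ≤ (st e I P : ℤ) - (t + 1) := h1
  have := st_le e hN P
  omega

end Groth.Agent.HilbPar45.Column
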