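import Groth.Agent.Lib.HilbPar45.Column

/-!
# Tangent vectors sending a minimal generator to a socle monomial
-/

set_option autoImplicit false

noncomputable section

namespace Groth.Agent.HilbPar45.Socle

open MvPolynomial W4c1hilbpn Groth.Agent.H15.HilbTgt.Basic
open Groth.Agent.HilbPar45.Column

universe u

variable {k : Type u} [Field k] {I : Ideal (MvPolynomial (Fin 3) k)}

/-- A minimal exponent and a socle exponent give a nonzero piece. -/
theorem tPiece_ne_bot (hI : IsMonomial I) (g δ : Fin 3 →₀ ℕ) (hg : g ∈ gens I) (hδ : δ ∉ exps I)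
    (hsoc : ∀ i, δ + Finsupp.single i 1 ∈ exps I) :
    tPiece I (fun i => (δ i : ℤ) - g i) ≠ ⊥ := by
  classical
  set α : Fin 3 → ℤ := fun i => (δ i : ℤ) - g i with hα
  have hnn : ∀ i, 0 ≤ (g i : ℤ) + α i := fun i => by simp [hα]
  have hsh : shift g α = δ := (shift_eq_iff hnn).2 fun i => by simp [hα]
  have hgood : Good I α g := ⟨hg.1, hnn, hsh ▸ hδ⟩
  have hmem : (fun β => if β = g then (1 : k) else 0) ∈ Coef I α := by
    refine ⟨fun β hβ => if_neg fun (h : β = g) => hβ (h ▸ hgood), fun β i hβ hs => ?_⟩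
    have h1 : β + Finsupp.single i 1 ≠ g := fun h => by
      refine hg.2 i (by rw [← h]; simp) ?_
      rw [← h, add_tsub_cancel_right]
      exact hβ
    have h2 : β ≠ g := fun h => by
      subst h
      refine hs.2.2 ?_
      rw [(shift_eq_iff hs.2.1 (γ := δ + Finsupp.single i 1)).2 fun j => by simp [hα]; ring]
      exact hsoc i
    show (if β + Finsupp.single i 1 = g then (1 : k) else 0) = if β = g then 1 else 0
    rw [if_neg h1, if_neg h2]
  intro hbot
  have hz : (⟨_, hmem⟩ : ↥(Coef I α)) = 0 := by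
    have : Subsingleton ↥(tPiece I α) := by rw [hbot]; infer_instance
    refine (pieceEquiv hI α).symm.injective (Subsingleton.elim _ _)
  have := congrFun (congrArg Subtype.val hz) g
  simp at this

theorem sigPiece_ne_bot (hI : IsMonomial I) (g δ : Fin 3 →₀ ℕ) (hg : g ∈ gens I) (hδ : δ ∉ exps I)
    (hsoc : ∀ i, δ + Finsupp.single i 1 ∈ exps I) (M : Set (Fin 3)) (hM : ∀ i, δ i < g i ↔ i ∈ M) :
    sigPiece I M ≠ ⊥ := by
  intro h
  refine tPiece_ne_bot hI g δ hg hδ hsoc (eq_bot_iff.2 (h ▸ ?_))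
  refine le_trans ?_ (le_iSup (fun a : {a : Fin 3 → ℤ // ∀ i, a i < 0 ↔ i ∈ M} => tPiece I a.1)
    ⟨fun i => (δ i : ℤ) - g i, fun i => ?_⟩)
  · exact le_rfl
  · rw [← hM i]
    show (δ i : ℤ) - g i < 0 ↔ δ i < g i
    omega

variable [Module.Finite k (MvPolynomial (Fin 3) k ⧸ I)]

/-- Three corner generators with one dominating force a two-sign piece. -/
theorem sigPiece_corner (hI : IsMonomial I) (e : Fin 3 ≃ Fin 3) (a1 a2 b1 b3 c2 c3 : ℕ) (ha1 : 0 < a1)
    (ha2 : 0 < a2) (hb1 : 0 < b1) (hc2 : 0 < c2)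
    (hA : E e a1 a2 0 ∈ exps I ∧ E e (a1 - 1) a2 0 ∉ exps I ∧ E e a1 (a2 - 1) 0 ∉ exps I)
    (hB : E e b1 0 b3 ∈ exps I ∧ E e (b1 - 1) 0 b3 ∉ exps I)
    (hC : E e 0 c2 c3 ∈ exps I ∧ E e 0 (c2 - 1) c3 ∉ exps I)
    (h1 : b1 ≤ a1) (h2 : c2 ≤ a2) : sigPiece I ({e 0, e 1} : Set (Fin 3)) ≠ ⊥ := by
  obtain ⟨N, hN⟩ := exists_bound hI
  set B := st e I (0, 0)
  have hB' : b3 < B := by
    by_contra h
    refine hB.2 ((st_iff e hN (b1 - 1, 0) b3).2 (le_trans (st_anti e hN ?_) (not_lt.1 h)))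
    exact ⟨Nat.zero_le _, le_rfl⟩
  have hC' : c3 < B := by
    by_contra h
    refine hC.2 ((st_iff e hN (0, c2 - 1) c3).2 (le_trans (st_anti e hN ?_) (not_lt.1 h)))
    exact ⟨le_rfl, Nat.zero_le _⟩
  have hp0 : E e b1 0 (B - 1) ∈ exps I :=
    (st_iff e hN (b1, 0) _).2 (((st_iff e hN (b1, 0) b3).1 hB.1).trans (by omega))
  classical
  have hexp : ∃ p, E e (p + 1) 0 (B - 1) ∈ exps I := ⟨b1 - 1, by rwa [Nat.sub_add_cancel hb1]⟩
  let p := Nat.find hexp
  have hp : p < b1 := lt_of_le_of_lt (Nat.find_le (by rwa [Nat.sub_add_cancel hb1])) (by omega : b1 - 1 < b1)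
  have hpn : E e p 0 (B - 1) ∉ exps I := by
    rcases Nat.eq_zero_or_pos p with h | h
    · rw [h, st_iff e hN (0, 0)]
      omega
    · intro hmem
      refine Nat.find_min hexp (show p - 1 < p by omega) ?_
      rwa [Nat.sub_add_cancel h]
  have hq0 : E e p c2 (B - 1) ∈ exps I :=
    (st_iff e hN (p, c2) _).2 ((st_anti e hN (show ((0, c2) : ℕ × ℕ) ≤ (p, c2) from ⟨Nat.zero_le _, le_rfl⟩)).trans
      (((st_iff e hN (0, c2) c3).1 hC.1).trans (by omega)))
  have hexq : ∃ q, E e p (q + 1) (B - 1) ∈ exps I := ⟨c2 - 1, by rwa [Nat.sub_add_cancel hc2]⟩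
  let q := Nat.find hexq
  have hq : q < c2 := lt_of_le_of_lt (Nat.find_le (by rwa [Nat.sub_add_cancel hc2])) (by omega : c2 - 1 < c2)
  have hqn : E e p q (B - 1) ∉ exps I := by
    rcases Nat.eq_zero_or_pos q with h | h
    · rwa [h]
    · intro hmem
      refine Nat.find_min hexq (show q - 1 < q by omega) ?_
      rwa [Nat.sub_add_cancel h]
  refine sigPiece_ne_bot hI (E e a1 a2 0) (E e p q (B - 1)) ⟨hA.1, fun i hi => ?_⟩ hqn (fun i => ?_) _ ?_
  · obtain ⟨j, rfl⟩ := e.surjective i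
    fin_cases j <;> simp [E_apply] at hi ⊢
    · rw [show E e a1 a2 0 - Finsupp.single (e 0) 1 = E e (a1 - 1) a2 0 from
        ext_perm e (by simp [E_apply]) (by simp [E_apply]) (by simp [E_apply])]
      exact hA.2.1
    · rw [show E e a1 a2 0 - Finsupp.single (e 1) 1 = E e a1 (a2 - 1) 0 from
        ext_perm e (by simp [E_apply]) (by simp [E_apply]) (by simp [E_apply])]
      exact hA.2.2
  · obtain ⟨j, rfl⟩ := e.surjective i
    have hst := E_step e p q (B - 1)
    have hpq : ((p + 1, 0) : ℕ × ℕ) ≤ (p + 1, q) := ⟨le_rfl, Nat.zero_le _⟩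
    fin_cases j
    · show E e p q (B - 1) + Finsupp.single (e 0) 1 ∈ exps I
      rw [hst.1]
      exact (st_iff e hN (p + 1, q) _).2 ((st_anti e hN hpq).trans ((st_iff e hN (p + 1, 0) _).1 (Nat.find_spec hexp)))
    · show E e p q (B - 1) + Finsupp.single (e 1) 1 ∈ exps I
      rw [hst.2.1]
      exact Nat.find_spec hexq
    · show E e p q (B - 1) + Finsupp.single (e 2) 1 ∈ exps I
      rw [hst.2.2]
      have := st_anti e hN (show ((0, 0) : ℕ × ℕ) ≤ (p, q) from ⟨Nat.zero_le _, Nat.zero_le _⟩)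
      exact (st_iff e hN (p, q) _).2 (by omega)
  · rw [forall_perm e]
    simp [E_apply]
    omega

end Groth.Agent.HilbPar45.Socle
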