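import Groth.Agent.Lib.HilbPar45.Sums
import Groth.Agent.Lib.HilbPar45.Socle
import Groth.Agent.H15.HilbTgt.Stair
import Groth.Agent.H15.HilbTgt.Pow

/-!
# Slices of strongly stable ideals and bounds on one-sign pieces
-/

set_option autoImplicit false

noncomputable section

namespace Groth.Agent.HilbPar45.Slices

open MvPolynomial W4c1hilbpn Groth.Agent.H15.HilbTgt.Basic
open Groth.Agent.HilbPar45.Column

universe u

/-- Triangular numbers. -/
def tri (n : ℕ) : ℕ := (n + 1).choose 2

theorem tri_succ (n : ℕ) : tri (n + 1) = tri n + (n + 1) := by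
  show (n + 1 + 1).choose 2 = (n + 1).choose 2 + (n + 1)
  rw [Nat.choose_succ_succ', Nat.choose_one_right, add_comm]

theorem tri_mono : Monotone tri := fun _ _ h => Nat.choose_le_choose _ (Nat.succ_le_succ h)

theorem tri_zero : tri 0 = 0 := rfl

theorem tri_eq_sum (n : ℕ) : tri n = ∑ j ∈ Finset.range n, (n - j) := by
  induction n with
  | zero => rfl
  | succ n ih =>
    rw [tri_succ, ih, Finset.sum_range_succ']
    simp

theorem sum_tri (r : ℕ) : ∑ i ∈ Finset.range r, tri (r - i) = (r + 2).choose 3 ∧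
    ∑ i ∈ Finset.range r, (i + 1) * tri (r - i) = (r + 3).choose 4 := by
  induction r with
  | zero => exact ⟨rfl, rfl⟩
  | succ r ih =>
    constructor
    · rw [Finset.sum_range_succ', Nat.choose_succ_succ' (r + 2) 2]
      simp only [Nat.reduceAdd, Nat.succ_sub_succ, Nat.sub_zero, ih.1]
      show _ + (r + 1 + 1).choose 2 = _
      ring
    · rw [Finset.sum_range_succ', Nat.choose_succ_succ' (r + 3) 3, Nat.choose_succ_succ' (r + 2) 2]
      have e : ∀ i, (i + 1 + 1) * tri (r + 1 - (i + 1)) = (i + 1) * tri (r - i) + tri (r - i) := fun i => by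
        rw [Nat.succ_sub_succ]
        ring
      simp only [e, Finset.sum_add_distrib, ih.1, ih.2, Nat.zero_add, one_mul, Nat.sub_zero]
      show _ + (r + 1 + 1).choose 2 = _
      ring

theorem weighted_eq_tails (d : ℕ → ℕ) (r : ℕ) :
    ∑ i ∈ Finset.range r, (i + 1) * d i = ∑ j ∈ Finset.range r, ∑ i ∈ Finset.Ico j r, d i := by
  induction r with
  | zero => rfl
  | succ r ih =>
    rw [Finset.sum_range_succ, ih]
    have e : ∀ j ∈ Finset.range (r + 1), ∑ i ∈ Finset.Ico j (r + 1), d i = (∑ i ∈ Finset.Ico j r, d i) + d r :=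
      fun j hj => Finset.sum_Ico_succ_top (by have := Finset.mem_range.1 hj; omega) _
    rw [Finset.sum_congr rfl e, Finset.sum_add_distrib, Finset.sum_range_succ _ r]
    simp

section Seq

variable (d q : ℕ → ℕ) (hA : ∀ i, d i ≤ tri (q i)) (hB : ∀ i, d (i + 1) + q i ≤ d i) (r : ℕ)
  (hC : ∀ R, ∑ i ∈ Finset.range R, d i ≤ (r + 2).choose 3)

include hA hB in
theorem exceed_pred {i n : ℕ} (h : tri n < d (i + 1)) : tri (n + 1) < d i := by
  have h1 := hB i
  have h2 := hA i
  have h3 : n < q i := by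
    by_contra hle
    have := tri_mono (not_lt.1 hle)
    omega
  rw [tri_succ]
  omega

include hA hB in
theorem exceed {j : ℕ} (hj : j ≤ r) (h : tri (r - j) < d j) : ∀ i ≤ j, tri (r - i) < d i := by
  intro i hi
  induction j with
  | zero => rwa [Nat.le_zero.1 hi]
  | succ j ih =>
    rcases Nat.eq_or_lt_of_le hi with rfl | hlt
    · exact h
    · refine ih (by omega) ?_ (by omega)
      have := exceed_pred d q hA hB h
      rwa [show r - (j + 1) + 1 = r - j by omega] at this

include hA hB hC in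
theorem eq_zero_of_le (i : ℕ) (hi : r ≤ i) : d i = 0 := by
  induction i, hi using Nat.le_induction with
  | base =>
    by_contra h
    have h1 := exceed d q hA hB r (le_refl r) (by rw [Nat.sub_self, tri_zero]; omega)
    have h2 := hC (r + 1)
    rw [Finset.sum_range_succ, ← (sum_tri r).1] at h2
    have h3 := Finset.sum_le_sum (s := Finset.range r) fun i hi =>
      (h1 i (le_of_lt (Finset.mem_range.1 hi))).le
    omega
  | succ i _ ih =>
    have := hB i
    omega

include hA hB hC in
theorem tail_le {j : ℕ} (hj : j ≤ r) :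
    ∑ i ∈ Finset.Ico j r, d i ≤ ∑ i ∈ Finset.Ico j r, tri (r - i) := by
  by_cases h : ∀ i ∈ Finset.Ico j r, d i ≤ tri (r - i)
  · exact Finset.sum_le_sum h
  push Not at h
  obtain ⟨i, hi, hlt⟩ := h
  rw [Finset.mem_Ico] at hi
  have h1 := exceed d q hA hB r hi.2.le hlt
  have h2 := Finset.sum_range_add_sum_Ico (fun i => d i) hj
  have h3 := Finset.sum_range_add_sum_Ico (fun i => tri (r - i)) hj
  have h4 := hC r
  rw [← (sum_tri r).1] at h4
  have h5 := Finset.sum_le_sum (s := Finset.range j) fun l hl =>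
    (h1 l (by have := Finset.mem_range.1 hl; omega)).le
  omega

include hA hB hC in
theorem weighted_le : ∑ i ∈ Finset.range r, (i + 1) * d i ≤ (r + 3).choose 4 ∧
    (∑ i ∈ Finset.range r, (i + 1) * d i = (r + 3).choose 4 →
      ∀ j < r, ∑ i ∈ Finset.Ico j r, d i = ∑ i ∈ Finset.Ico j r, tri (r - i)) := by
  rw [← (sum_tri r).2, weighted_eq_tails, weighted_eq_tails]
  have h : ∀ j ∈ Finset.range r, ∑ i ∈ Finset.Ico j r, d i ≤ ∑ i ∈ Finset.Ico j r, tri (r - i) := fun j hj =>
    tail_le d q hA hB r hC (le_of_lt (Finset.mem_range.1 hj))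
  exact ⟨Finset.sum_le_sum h, fun he j hj => (Finset.sum_eq_sum_iff_of_le h).1 he j (Finset.mem_range.2 hj)⟩

end Seq

variable {k : Type u} [Field k]

/-- The colength of a monomial ideal is the number of exponents outside it. -/
theorem finrank_eq_card {σ : Type} [Finite σ] {J : Ideal (MvPolynomial σ k)} (hJ : IsMonomial J)
    (hfin : {γ | γ ∉ exps J}.Finite) :
    Module.finrank k (MvPolynomial σ k ⧸ J) = Nat.card {γ // γ ∉ exps J} := by
  classical
  have : Fintype {γ // γ ∉ exps J} := hfin.fintype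
  let L : (MvPolynomial σ k ⧸ J) →ₗ[k] ({γ // γ ∉ exps J} → k) := LinearMap.pi fun γ => qc hJ γ.1
  have hbij : Function.Bijective L := by
    refine ⟨(injective_iff_map_eq_zero L).2 fun p hp => eq_zero_of_qc hJ p fun γ hγ => congrFun hp ⟨γ, hγ⟩,
      fun w => ⟨Ideal.Quotient.mk J (∑ γ : {γ // γ ∉ exps J}, monomial γ.1 (w γ)), funext fun γ => ?_⟩⟩
    show qc hJ γ.1 _ = w γ
    rw [qc_mk hJ γ.2, coeff_sum, Finset.sum_eq_single γ (fun δ _ hne => by
      rw [coeff_monomial, if_neg fun h => hne (Subtype.ext h)]) (fun h => absurd (Finset.mem_univ γ) h),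
      coeff_monomial, if_pos rfl]
  rw [(LinearEquiv.ofBijective L hbij).finrank_eq, Module.finrank_pi, Nat.card_eq_fintype_card]

theorem eq_of_exps_eq {σ : Type} {J J' : Ideal (MvPolynomial σ k)} (hJ : IsMonomial J) (hJ' : IsMonomial J')
    (h : exps J = exps J') : J = J' := by
  have key : ∀ A B : Ideal (MvPolynomial σ k), IsMonomial A → exps A ⊆ exps B → A ≤ B := by
    intro A B hA hAB p hp
    rw [as_sum p]
    exact sum_mem fun β hβ => monomial_mem (hAB (hA p hp β hβ)) _
  exact le_antisymm (key _ _ hJ h.le) (key _ _ hJ' h.ge)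

variable {I : Ideal (MvPolynomial (Fin 3) k)}

/-- The size of a slice. -/
def sd (I : Ideal (MvPolynomial (Fin 3) k)) (i : ℕ) : ℕ := Nat.card {γ // γ ∉ exps I ∧ γ 0 = i}

variable {N : ℕ}

theorem sd_eq (hN : Bound I N) (e : Fin 3 ≃ Fin 3) (he : e 0 = 0) (i : ℕ) :
    sd I i = ∑ j ∈ Finset.range N, st e I (i, j) := by
  classical
  rw [← Finset.sum_coe_sort, show ∑ j : ↥(Finset.range N), st e I (i, (j : ℕ)) =
    Nat.card (Σ j : ↥(Finset.range N), Fin (st e I (i, (j : ℕ)))) by simp [Nat.card_sigma]]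
  refine (Nat.card_congr (Equiv.ofBijective
    (fun x : Σ j : ↥(Finset.range N), Fin (st e I (i, (j : ℕ))) =>
      (⟨E e i x.1 x.2, fun h => ?_, ?_⟩ : {γ // γ ∉ exps I ∧ γ 0 = i})) ⟨?_, ?_⟩)).symm
  · have := (st_iff e hN (i, x.1.1) x.2.1).1 h
    have := x.2.2
    omega
  · rw [← he, E_apply]
    rfl
  · rintro ⟨⟨j, hj⟩, ⟨c, hc⟩⟩ ⟨⟨j', hj'⟩, ⟨c', hc'⟩⟩ h
    have h1 := DFunLike.congr_fun (congrArg Subtype.val h) (e 1)
    have h2 := DFunLike.congr_fun (congrArg Subtype.val h) (e 2)
    simp [E_apply] at h1 h2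
    subst h1 h2
    rfl
  · rintro ⟨γ, hγ, hγ0⟩
    have h0 : γ (e 0) = i := by rw [he, hγ0]
    refine ⟨⟨⟨γ (e 1), Finset.mem_range.2 (hN γ hγ _)⟩, γ (e 2), ?_⟩, Subtype.ext ?_⟩
    · show γ (e 2) < st e I (i, γ (e 1))
      by_contra h
      refine hγ ?_
      rw [← E_eq e γ, h0]
      exact (st_iff e hN (i, γ (e 1)) _).2 (by omega)
    · show E e i (γ (e 1)) (γ (e 2)) = γ
      rw [← h0, E_eq]

theorem sd_zero (hN : Bound I N) (i : ℕ) (hi : N ≤ i) : sd I i = 0 := by
  rw [sd_eq hN (Equiv.refl _) rfl]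
  exact Finset.sum_eq_zero fun j _ => st_zero _ hN _ (Or.inl hi)

theorem finrank_slice (hI : IsMonomial I) [Module.Finite k (MvPolynomial (Fin 3) k ⧸ I)] (i : ℕ) :
    Module.finrank k (MvPolynomial (Fin 2) k ⧸ sliceX I i) = sd I i := by
  have hs : IsMonomial (sliceX I i) := fun p hp β hβ =>
    (Groth.Agent.H15.HilbTgt.Stair.slice_exps hI i β).2
      ((Groth.Agent.H15.HilbTgt.Stair.slice_mem_iff hI i p).1 hp β hβ)
  have hiff : ∀ β, β ∉ exps (sliceX I i) ↔ Finsupp.cons i β ∉ exps I := fun β =>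
    not_congr (Groth.Agent.H15.HilbTgt.Stair.slice_exps hI i β)
  rw [finrank_eq_card hs (Set.Finite.of_finite_image (f := fun β => Finsupp.cons i β)
    ((finite_compl_exps hI).subset (by rintro _ ⟨β, hβ, rfl⟩; exact (hiff β).1 hβ))
    (fun β _ β' _ h => by simpa using congrArg Finsupp.tail h))]
  refine Nat.card_congr (Equiv.ofBijective (fun β => ⟨Finsupp.cons i β.1, (hiff β.1).1 β.2, Finsupp.cons_zero i β.1⟩)
    ⟨fun β β' h => Subtype.ext (by simpa using congrArg Finsupp.tail (congrArg Subtype.val h)), ?_⟩)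
  rintro ⟨γ, hγ, hγ0⟩
  have e : Finsupp.cons i (Finsupp.tail γ) = γ := by rw [← hγ0, Finsupp.cons_tail]
  exact ⟨⟨Finsupp.tail γ, (hiff _).2 (by rwa [e])⟩, Subtype.ext e⟩

theorem sum_sd_le (hI : IsMonomial I) [Module.Finite k (MvPolynomial (Fin 3) k ⧸ I)] (hN : Bound I N) (R : ℕ) :
    ∑ i ∈ Finset.range R, sd I i ≤ Module.finrank k (MvPolynomial (Fin 3) k ⧸ I) ∧
      ∑ i ∈ Finset.range N, sd I i = Module.finrank k (MvPolynomial (Fin 3) k ⧸ I) := by
  have e : ∑ i ∈ Finset.range N, sd I i = Module.finrank k (MvPolynomial (Fin 3) k ⧸ I) := by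
    rw [Sums.finrank_quot hI hN (Equiv.refl _), Finset.sum_product]
    exact Finset.sum_congr rfl fun i _ => sd_eq hN _ rfl i
  refine ⟨?_, e⟩
  rw [← e]
  rcases le_total R N with h | h
  · exact Finset.sum_le_sum_of_subset (fun x => by simp; omega)
  · exact le_of_eq (Finset.sum_subset (s₁ := Finset.range N) (fun x => by simp; omega)
      fun i _ hi => sd_zero hN i (by simpa using hi)).symm

theorem stair_strict (hI : IsStronglyStable I) (hN : Bound I N) (p j : ℕ) :
    st (Equiv.refl _) I (p, j + 1) ≤ st (Equiv.refl _) I (p, j) - 1 := by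
  set e := Equiv.refl (Fin 3)
  have hle := st_anti e hN (Planar.Data.le_sy (p, j))
  rcases Nat.eq_zero_or_pos (st e I (p, j)) with h | h
  · have : st e I (p, j + 1) ≤ st e I (p, j) := hle
    omega
  · rw [← st_iff e hN (p, j + 1)]
    have := hI.2 _ ((st_iff e hN (p, j) _).2 le_rfl) (e 1) (e 2) (by decide) (by rw [E_apply]; simpa using h)
    convert this using 1
    refine ext_perm e ?_ ?_ ?_ <;> simp [E_apply]

/-- The first staircase number of a slice. -/
def sq (I : Ideal (MvPolynomial (Fin 3) k)) (i : ℕ) : ℕ := st (Equiv.refl _) I (i, 0)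

theorem st_le_sq_sub (hI : IsStronglyStable I) (hN : Bound I N) (i j : ℕ) :
    st (Equiv.refl _) I (i, j) ≤ sq I i - j := by
  induction j with
  | zero => exact le_rfl
  | succ j ih =>
    have := stair_strict hI hN i j
    omega

theorem sd_le_tri (hI : IsStronglyStable I) (hN : Bound I N) (i : ℕ) : sd I i ≤ tri (sq I i) := by
  rw [sd_eq hN (Equiv.refl _) rfl, tri_eq_sum]
  have hq : sq I i ≤ N := st_le _ hN _
  rw [Finset.sum_subset (Finset.range_mono hq) fun j _ hj => by rw [Finset.mem_range] at hj; omega]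
  exact Finset.sum_le_sum fun j _ => st_le_sq_sub hI hN i j

theorem sd_succ_le (hI : IsStronglyStable I) (hN : Bound I N) (i : ℕ) : sd I (i + 1) + sq I i ≤ sd I i := by
  set e := Equiv.refl (Fin 3)
  rw [sd_eq hN e rfl, sd_eq hN e rfl]
  have hstep : ∀ j, st e I (i + 1, j) ≤ st e I (i, j + 1) := fun j => by
    rw [← st_iff e hN (i + 1, j)]
    have := hI.2 _ ((st_iff e hN (i, j + 1) _).2 le_rfl) (e 0) (e 1) (by decide) (by rw [E_apply]; simp)
    convert this using 1
    refine ext_perm e ?_ ?_ ?_ <;> simp [E_apply]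
  have h1 := Finset.sum_le_sum (s := Finset.range N) fun j _ => hstep j
  have h2 := Finset.sum_range_succ' (fun j => st e I (i, j)) N
  rw [Finset.sum_range_succ, st_zero e hN (i, N) (Or.inr le_rfl), add_zero] at h2
  show _ + st e I (i, 0) ≤ _
  omega

theorem eq_pow_of_tails (hI : IsStronglyStable I) [Module.Finite k (MvPolynomial (Fin 3) k ⧸ I)]
    (hN : Bound I N) (r : ℕ) (hd : Module.finrank k (MvPolynomial (Fin 3) k ⧸ I) ≤ (r + 2).choose 3)
    (h : ∀ j < r, ∑ i ∈ Finset.Ico j r, sd I i = ∑ i ∈ Finset.Ico j r, tri (r - i)) :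
    I = (Ideal.span (Set.range (MvPolynomial.X : Fin 3 → MvPolynomial (Fin 3) k))) ^ r := by
  set e := Equiv.refl (Fin 3)
  have hA := sd_le_tri hI hN
  have hB := sd_succ_le hI hN
  have hC : ∀ R, ∑ i ∈ Finset.range R, sd I i ≤ (r + 2).choose 3 := fun R =>
    (sum_sd_le hI.1 hN R).1.trans hd
  have hd' : ∀ i, sd I i = tri (r - i) := by
    intro i
    rcases Nat.lt_or_ge i r with hi | hi
    · rcases Nat.lt_or_ge (i + 1) r with hi' | hi'
      · have h1 := h i hi
        rw [Finset.sum_eq_sum_Ico_succ_bot hi, Finset.sum_eq_sum_Ico_succ_bot hi, h (i + 1) hi'] at h1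
        omega
      · have h1 := h i hi
        rw [show Finset.Ico i r = {i} by ext x; simp; omega, Finset.sum_singleton, Finset.sum_singleton] at h1
        exact h1
    · rw [eq_zero_of_le _ _ hA hB r hC i hi, Nat.sub_eq_zero_of_le hi, tri_zero]
  have hst : ∀ i j, st e I (i, j) = r - i - j := by
    intro i j
    have hq : sq I i ≤ r - i := by
      have h1 := hB i
      rw [hd', hd'] at h1
      rcases Nat.eq_zero_or_pos (r - i) with h0 | h0
      · rw [h0, tri_zero] at h1; omega
      · rw [show r - i = (r - (i + 1)) + 1 by omega, tri_succ] at h1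
        omega
    rcases Nat.lt_or_ge j N with hjN | hjN
    · have hle : ∀ l ∈ Finset.range N, st e I (i, l) ≤ r - i - l := fun l _ =>
        (st_le_sq_sub hI hN i l).trans (by omega)
      refine (Finset.sum_eq_sum_iff_of_le hle).1 (le_antisymm (Finset.sum_le_sum hle) ?_) j
        (Finset.mem_range.2 hjN)
      rw [← sd_eq hN e rfl, hd', tri_eq_sum]
      calc ∑ l ∈ Finset.range N, (r - i - l) ≤ ∑ l ∈ Finset.range (max N (r - i)), (r - i - l) :=
            Finset.sum_le_sum_of_subset (Finset.range_mono (le_max_left _ _))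
        _ = ∑ l ∈ Finset.range (r - i), (r - i - l) :=
            (Finset.sum_subset (Finset.range_mono (le_max_right _ _))
              fun l _ hl => by rw [Finset.mem_range] at hl; omega).symm
    · rw [st_zero e hN (i, j) (Or.inr hjN)]
      have hrq : r - i ≤ N := by
        by_contra hlt
        have h1 : r - i ≤ sq I i := by
          by_contra hh
          have h2 := hA i
          rw [hd'] at h2
          have h3 : tri (r - i - 1) < tri (r - i) := by
            conv_rhs => rw [show r - i = r - i - 1 + 1 by omega, tri_succ]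
            omega
          have h4 := tri_mono (show sq I i ≤ r - i - 1 by omega)
          omega
        have h5 : sq I i ≤ N := st_le _ hN _
        omega
      omega
  refine eq_of_exps_eq hI.1 (Groth.Agent.H15.HilbTgt.Pow.isMonomial r) (Set.ext fun γ => ?_)
  rw [Groth.Agent.H15.HilbTgt.Pow.mem_exps]
  conv_lhs => rw [← E_eq e γ]
  rw [st_iff e hN (γ (e 0), γ (e 1)), hst, Finsupp.degree_eq_sum, Fin.sum_univ_three]
  simp only [e, Equiv.refl_apply]
  omega

theorem sigPos_le (hI : IsMonomial I) [Module.Finite k (MvPolynomial (Fin 3) k ⧸ I)] (hN : Bound I N)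
    (e : Fin 3 ≃ Fin 3) (he : e 0 = 0) :
    Module.finrank k ↥(sigPiece I {e 2}) ≤ ∑ i ∈ Finset.range N, (i + 1) * sd I i := by
  classical
  rw [Sums.finrank_sigPos hI hN e]
  have inner : ∀ a b : ℕ, ∑ t ∈ Finset.range N, Module.finrank k ↥(Coef I (A e a b (-((t : ℤ) + 1)))) ≤
      ∑ p ∈ Finset.range N, st e I (p + a, b) := by
    intro a b
    let F : ℕ × ℕ → ℕ := fun Q => st e I (Q.1 + a, Q.2 + b)
    let box := Finset.range N ×ˢ Finset.range N
    have hFle : ∀ P : ℕ × ℕ, F P ≤ st e I P := fun P =>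
      st_anti e hN ⟨Nat.le_add_right _ _, Nat.le_add_right _ _⟩
    have hFy : ∀ P : ℕ × ℕ, F (Planar.sy P) ≤ F P := fun P =>
      st_anti e hN (show ((P.1 + a, P.2 + b) : ℕ × ℕ) ≤ (P.1 + a, P.2 + 1 + b) from ⟨le_rfl, by omega⟩)
    let Top : ℕ → Finset (ℕ × ℕ) := fun t => box.filter fun P =>
      t + 1 ≤ st e I P ∧ st e I P < t + 1 + F P ∧ t + 1 + F (Planar.sy P) ≤ st e I P
    have hV : ∀ t : ℕ, Module.finrank k ↥(Coef I (A e a b (-((t : ℤ) + 1)))) ≤ (Top t).card := by
      intro t
      rw [(posEquiv e hN a b t).finrank_eq]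
      let D := dat e hN a b t
      let res : ↥(D.V k) →ₗ[k] (↥(Top t) → k) :=
        { toFun := fun u P => (u : ℕ × ℕ → k) P, map_add' := fun _ _ => rfl, map_smul' := fun _ _ => rfl }
      have hres : Function.Injective res := by
        refine (injective_iff_map_eq_zero res).2 fun u hu => Subtype.ext (funext fun P => ?_)
        show (u : ℕ × ℕ → k) P = 0
        induction hn : N - P.2 using Nat.strong_induction_on generalizing P with
        | _ n ih =>
          by_cases hP : P ∈ D.X0
          · have hP' := (Planar.Data.mem_X0 D).1 hP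
            have hG : P ∈ box.filter (fun P => t + 1 ≤ st e I P) := hP'.1
            rw [Finset.mem_filter] at hG
            have h2 : (st e I P : ℤ) - (t + 1) < (F P : ℤ) := hP'.2
            by_cases hY : P ∈ D.Y1
            · rw [← u.2.2.2 P hY]
              have hlt : P.2 < N := Finset.mem_range.1 (Finset.mem_product.1 hG.1).2
              exact ih (N - (P.2 + 1)) (by omega) (Planar.sy P) rfl
            · have h3 : ¬ (st e I P : ℤ) - (t + 1) < (F (Planar.sy P) : ℤ) := fun h =>
                hY (Finset.mem_filter.2 ⟨hP'.1, h⟩)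
              exact congrFun hu ⟨P, Finset.mem_filter.2 ⟨hG.1, hG.2, by omega, by omega⟩⟩
          · exact u.2.1 P hP
      refine (LinearMap.finrank_le_finrank_of_injective hres).trans ?_
      simp
    refine (Finset.sum_le_sum fun t _ => hV t).trans ?_
    have e1 : ∀ t, (Top t).card = ∑ P ∈ box,
        if t + 1 ≤ st e I P ∧ st e I P < t + 1 + F P ∧ t + 1 + F (Planar.sy P) ≤ st e I P then 1 else 0 :=
      fun t => Finset.card_filter _ _
    simp only [e1]
    rw [Finset.sum_comm, Finset.sum_product]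
    refine Finset.sum_le_sum fun p _ => ?_
    have hcount : ∀ q : ℕ, (∑ t ∈ Finset.range N, if t + 1 ≤ st e I (p, q) ∧ st e I (p, q) < t + 1 + F (p, q) ∧
        t + 1 + F (Planar.sy (p, q)) ≤ st e I (p, q) then 1 else 0) = F (p, q) - F (p, q + 1) := by
      intro q
      rw [← Finset.card_filter]
      have := hFle (p, q)
      have h4 : F (p, q + 1) ≤ F (p, q) := hFy (p, q)
      have := st_le e hN (p, q)
      rw [show (Finset.range N).filter (fun t => t + 1 ≤ st e I (p, q) ∧ st e I (p, q) < t + 1 + F (p, q) ∧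
          t + 1 + F (Planar.sy (p, q)) ≤ st e I (p, q)) =
          Finset.Ico (st e I (p, q) - F (p, q)) (st e I (p, q) - F (p, q + 1)) by
        ext t
        simp only [Finset.mem_filter, Finset.mem_range, Finset.mem_Ico, Planar.sy]
        omega, Nat.card_Ico]
      omega
    simp only [hcount]
    have hanti : Antitone fun q => F (p, q) := antitone_nat_of_succ_le fun q => hFy (p, q)
    have h5 : ∀ n, (∑ q ∈ Finset.range n, (F (p, q) - F (p, q + 1))) + F (p, n) = F (p, 0) := by
      intro n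
      induction n with
      | zero => simp
      | succ n ih =>
        rw [Finset.sum_range_succ]
        have h4 : F (p, n + 1) ≤ F (p, n) := hFy (p, n)
        omega
    have h6 := h5 N
    have h7 : F (p, 0) = st e I (p + a, b) := by simp [F]
    omega
  rw [Finset.sum_product]
  refine (Finset.sum_le_sum fun a _ => Finset.sum_le_sum fun b _ => inner a b).trans ?_
  calc ∑ a ∈ Finset.range N, ∑ b ∈ Finset.range N, ∑ p ∈ Finset.range N, st e I (p + a, b)
      = ∑ a ∈ Finset.range N, ∑ i ∈ Finset.Ico a N, sd I i := by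
        refine Finset.sum_congr rfl fun a ha => ?_
        rw [Finset.sum_comm]
        simp only [← sd_eq hN e he]
        rw [Finset.sum_Ico_eq_sum_range]
        rw [← Finset.sum_subset (Finset.range_mono (Nat.sub_le N a))
          fun p _ hp => sd_zero hN _ (by rw [Finset.mem_range] at hp; omega)]
        exact Finset.sum_congr rfl fun p _ => by rw [add_comm]
    _ = _ := (weighted_eq_tails (sd I) N).symm
    _ ≤ _ := le_rfl

theorem weighted_trunc (hN : Bound I N) (r : ℕ) (hz : ∀ i, r ≤ i → sd I i = 0) :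
    ∑ i ∈ Finset.range N, (i + 1) * sd I i = ∑ i ∈ Finset.range r, (i + 1) * sd I i := by
  have key : ∀ M, (∀ i, M ≤ i → sd I i = 0) →
      ∑ i ∈ Finset.range (max N r), (i + 1) * sd I i = ∑ i ∈ Finset.range M, (i + 1) * sd I i ∨ max N r < M := by
    intro M hM
    rcases Nat.lt_or_ge (max N r) M with h | h
    · exact Or.inr h
    · refine Or.inl (Finset.sum_subset (Finset.range_mono h) fun i _ hi => ?_).symm
      rw [hM i (by simpa using hi), mul_zero]
  rcases key N (fun i hi => sd_zero hN i hi) with h1 | h1 <;> rcases key r hz with h2 | h2 <;>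
    omega

/-- The bound for the one-sign pieces of a strongly stable ideal of triangular colength. -/
theorem sig_bound (hI : IsStronglyStable I) [Module.Finite k (MvPolynomial (Fin 3) k ⧸ I)] (r : ℕ)
    (hd : Module.finrank k (MvPolynomial (Fin 3) k ⧸ I) = (r + 2).choose 3)
    (e : Fin 3 ≃ Fin 3) (he : e 0 = 0) :
    (Module.finrank k ↥(sigPiece I {e 2}) ≤ (r + 3).choose 4 ∧
      (Module.finrank k ↥(sigPiece I {e 2}) = (r + 3).choose 4 ↔
        I = (Ideal.span (Set.range (MvPolynomial.X : Fin 3 → MvPolynomial (Fin 3) k))) ^ r)) ∧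
    (Module.finrank k ↥(sigPiece I ({e 2}ᶜ : Set (Fin 3))) ≤ (r + 2).choose 4 ∧
      (Module.finrank k ↥(sigPiece I ({e 2}ᶜ : Set (Fin 3))) = (r + 2).choose 4 ↔
        I = (Ideal.span (Set.range (MvPolynomial.X : Fin 3 → MvPolynomial (Fin 3) k))) ^ r)) := by
  obtain ⟨N, hN⟩ := exists_bound hI.1
  have hA := sd_le_tri hI hN
  have hB := sd_succ_le hI hN
  have hC : ∀ R, ∑ i ∈ Finset.range R, sd I i ≤ (r + 2).choose 3 := fun R =>
    (sum_sd_le hI.1 hN R).1.trans hd.le
  have h1 := (sigPos_le hI.1 hN e he).trans_eq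
    (weighted_trunc hN r fun i hi => eq_zero_of_le _ _ hA hB r hC i hi)
  have h2 := weighted_le _ _ hA hB r hC
  have hiff : Module.finrank k ↥(sigPiece I {e 2}) = (r + 3).choose 4 ↔
      I = (Ideal.span (Set.range (MvPolynomial.X : Fin 3 → MvPolynomial (Fin 3) k))) ^ r := by
    constructor
    · intro h
      exact eq_pow_of_tails hI hN r hd.le (h2.2 (by omega))
    · rintro rfl
      exact (Groth.Agent.H15.HilbTgt.Pow.finrank_three r (e 2)).1
  have hdual := Sums.sig_duality hI.1 e
  have hpas : (r + 3).choose 4 = (r + 2).choose 3 + (r + 2).choose 4 := Nat.choose_succ_succ' (r + 2) 3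
  refine ⟨⟨h1.trans h2.1, hiff⟩, by have := h1.trans h2.1; omega, ?_⟩
  rw [← hiff]
  omega

/-- With `x` in the ideal the two-sign pieces vanish. -/
theorem two_sign_bot (hI : IsMonomial I) [Module.Finite k (MvPolynomial (Fin 3) k ⧸ I)]
    (hx : (MvPolynomial.X 0 : MvPolynomial (Fin 3) k) ∈ I) :
    sigPiece I ({1, 2} : Set (Fin 3)) = ⊥ ∧ sigPiece I ({0, 2} : Set (Fin 3)) = ⊥ ∧
      sigPiece I ({0, 1} : Set (Fin 3)) = ⊥ := by
  classical
  obtain ⟨N, hN⟩ := exists_bound hI
  have hz : ∀ i, 1 ≤ i → sd I i = 0 := by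
    intro i hi
    have : IsEmpty {γ // γ ∉ exps I ∧ γ 0 = i} := ⟨fun γ => γ.2.1 (exps_mono
      (show Finsupp.single 0 1 ∈ exps I from hx) (Finsupp.single_le_iff.2 (by omega)))⟩
    exact Nat.card_of_isEmpty
  have fin : Module.Finite k (Tgt I) := by
    have := fun α => finite_coef hI α
    refine Module.Finite.of_injective (LinearMap.pi fun α : ↥(degs hI) => proj hI α.1) ?_
    refine (injective_iff_map_eq_zero _).2 fun φ hφ => ?_
    rw [eq_sum_proj hI φ]
    exact Finset.sum_eq_zero fun α hα => by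
      rw [show proj hI α φ = 0 from congrFun hφ ⟨α, hα⟩, map_zero]
  have side : ∀ e : Fin 3 ≃ Fin 3, e 0 = 0 → sigPiece I ({e 2}ᶜ : Set (Fin 3)) = ⊥ := by
    intro e he
    rw [← Submodule.finrank_eq_zero]
    have h1 := sigPos_le hI hN e he
    rw [weighted_trunc hN 1 hz] at h1
    simp at h1
    have h2 := Sums.sig_duality hI e
    have h3 := (sum_sd_le hI hN 1).1
    simp at h3
    omega
  refine ⟨?_, ?_, ?_⟩
  · refine eq_bot_iff.2 (iSup_le fun ⟨α, hα⟩ => ?_)
    rw [tPiece_eq_bot hI α fun c => ?_]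
    let e : Fin 3 ≃ Fin 3 :=
      ⟨![1, 2, 0], ![2, 0, 1], fun i => by fin_cases i <;> rfl, fun i => by fin_cases i <;> rfl⟩
    obtain ⟨a, ha⟩ : ∃ a : ℕ, α (e 0) = -((a : ℤ) + 1) :=
      ⟨(-α (e 0) - 1).toNat, by have := (hα (e 0)).2 (by simp [e]); omega⟩
    obtain ⟨b, hb⟩ : ∃ b : ℕ, α (e 1) = -((b : ℤ) + 1) :=
      ⟨(-α (e 1) - 1).toNat, by have := (hα (e 1)).2 (by simp [e]); omega⟩
    obtain ⟨t, ht⟩ : ∃ t : ℕ, α (e 2) = t :=
      ⟨(α (e 2)).toNat, by have := mt (hα (e 2)).1 (by simp [e]); omega⟩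
    revert c
    rw [← A_eq e α, ha, hb, ht]
    intro c
    refine (negEquiv e hN a b t).injective ?_
    rw [map_zero]
    generalize (negEquiv e hN a b t) c = φ
    let D := dat e hN a b t
    have hb1 : ∀ P : ℕ × ℕ, st e I P ≤ 1 := fun P => (st_iff e hN P 1).1
      (exps_mono (show Finsupp.single 0 1 ∈ exps I from hx) (Finsupp.single_le_iff.2 (by
        have h := E_apply e P.1 P.2 1 2
        simp [e] at h ⊢
        omega)))
    refine Subtype.ext (funext fun P => ?_)
    show (φ : ℕ × ℕ → k) P = 0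
    obtain ⟨n, hn⟩ : ∃ n, P.1 * (N + 1) + (N - P.2) = n := ⟨_, rfl⟩
    induction n using Nat.strong_induction_on generalizing P with
    | _ n ih =>
      by_cases hP : P ∈ D.K2
      swap
      · exact φ.2.1 P hP
      have hK := (Planar.Data.mem_K2 D).1 hP
      have hG : P ∈ (Finset.range N ×ˢ Finset.range N).filter (fun Q => t + 1 ≤ st e I Q) := hK.1
      rw [Finset.mem_filter, Finset.mem_product, Finset.mem_range, Finset.mem_range] at hG
      have hP1 := hb1 P
      have h2 : (st e I (P.1 + 1 + a, P.2 + 1 + b) : ℤ) ≤ (st e I P : ℤ) - (t + 1) := hK.2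
      by_cases hup : Planar.sy P ∈ D.G
      · have hu : Planar.sy P ∈ (Finset.range N ×ˢ Finset.range N).filter (fun Q => t + 1 ≤ st e I Q) := hup
        rw [Finset.mem_filter, Finset.mem_product, Finset.mem_range, Finset.mem_range] at hu
        have hu1 := hb1 (Planar.sy P)
        have hE : Planar.sy P ∈ D.E1 := (Planar.Data.mem_E1 D).2 ⟨hup, by
          show (st e I (P.1 + 1 + a, P.2 + 1 + b) : ℤ) ≤ (st e I (Planar.sy P) : ℤ) - (t + 1)
          omega⟩
        have hval : (φ : ℕ × ℕ → k) (Planar.sy P) = (φ : ℕ × ℕ → k) P := by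
          rw [φ.2.2.1 _ hE, if_neg (Nat.succ_ne_zero _)]
          rfl
        rw [← hval]
        exact ih (P.1 * (N + 1) + (N - (P.2 + 1))) (by omega) (Planar.sy P) rfl
      · have hzero : st e I (P.1 + a, P.2 + 1 + b) = 0 := by
          by_contra hne
          refine hup ((D.hG _).2 ?_)
          have : st e I (P.1 + a, P.2 + 1 + b) ≤ st e I (Planar.sy P) :=
            st_anti e hN ⟨Nat.le_add_right _ _, Nat.le_add_right _ _⟩
          show 0 ≤ (st e I (Planar.sy P) : ℤ) - (t + 1)
          omega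
        have hF : P ∈ D.F1 := (Planar.Data.mem_F1 D).2 ⟨hK.1, by
          show (st e I (P.1 + a, P.2 + 1 + b) : ℤ) ≤ (st e I P : ℤ) - (t + 1)
          omega⟩
        rw [φ.2.2.2 P hF]
        split
        · rfl
        next hp =>
          refine ih ((P.1 - 1) * (N + 1) + (N - P.2)) ?_ (P.1 - 1, P.2) rfl
          obtain ⟨p, hp'⟩ : ∃ p, P.1 = p + 1 := ⟨P.1 - 1, by omega⟩
          have h3 : (p + 1) * (N + 1) = p * (N + 1) + (N + 1) := Nat.succ_mul _ _
          rw [hp', h3] at hn
          rw [hp', Nat.add_sub_cancel]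
          omega
  · have h := side (Equiv.swap 1 2) (by decide)
    rw [Equiv.swap_apply_right] at h
    rwa [show ({0, 2} : Set (Fin 3)) = {1}ᶜ by ext i; fin_cases i <;> simp]
  · have h := side (Equiv.refl _) rfl
    rwa [show ({0, 1} : Set (Fin 3)) = {(2 : Fin 3)}ᶜ by ext i; fin_cases i <;> simp]

/-- Without `x` in a strongly stable ideal some two-sign piece survives. -/
theorem two_sign_ne_bot (hI : IsStronglyStable I) [Module.Finite k (MvPolynomial (Fin 3) k ⧸ I)]
    (hx : (MvPolynomial.X 0 : MvPolynomial (Fin 3) k) ∉ I) : sigPiece I ({0, 1} : Set (Fin 3)) ≠ ⊥ := by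
  classical
  obtain ⟨N, hN⟩ := exists_bound hI.1
  set e := Equiv.refl (Fin 3)
  have hx' : E e 1 0 0 ∉ exps I := by
    rw [show E e 1 0 0 = Finsupp.single 0 1 from ext_perm e (by simp [E, e]) (by simp [E, e])
      (by simp [E, e])]
    exact hx
  have hB : 2 ≤ st e I (0, 0) := by
    by_contra h
    refine hx' ?_
    have h2 := hI.2 _ ((st_iff e hN (0, 0) 1).2 (by omega)) (e 0) (e 2) (by decide) (by rw [E_apply]; simp)
    convert h2 using 1
    refine ext_perm e ?_ ?_ ?_ <;> simp [E_apply]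
  set B := st e I (0, 0)
  have hex : ∃ j, E e 1 j 0 ∈ exps I := ⟨N, by_contra fun h => by
    have := hN _ h (e 1); simp [E_apply] at this⟩
  let q := Nat.find hex
  have hq : E e 1 q 0 ∈ exps I := Nat.find_spec hex
  have hq1 : 0 < q := Nat.pos_of_ne_zero fun h => hx' (h ▸ hq)
  have hqm : E e 1 (q - 1) 0 ∉ exps I := Nat.find_min hex (by omega)
  have hzB := (st_iff e hN (0, 0) B).2 le_rfl
  refine Socle.sigPiece_ne_bot hI.1 (E e 1 q 0) (E e 0 0 (B - 1)) ⟨hq, fun i hi => ?_⟩
    (fun h => by rw [st_iff e hN (0, 0)] at h; omega) (fun i => ?_) _ ?_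
  · obtain ⟨j, rfl⟩ := e.surjective i
    fin_cases j <;> simp [E_apply] at hi ⊢
    · intro h
      refine hqm ?_
      have h2 := hI.2 _ h (e 0) (e 1) (by decide) (by simp [E_apply, hq1])
      convert h2 using 1
      refine ext_perm e ?_ ?_ ?_ <;> simp [E_apply]
    · rw [show E e 1 q 0 - Finsupp.single (e 1) 1 = E e 1 (q - 1) 0 from
        ext_perm e (by simp [E_apply]) (by simp [E_apply]) (by simp [E_apply])]
      exact hqm
  · obtain ⟨j, rfl⟩ := e.surjective i
    fin_cases j
    · have h2 := hI.2 _ hzB (e 0) (e 2) (by decide) (by simp [E_apply]; omega)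
      convert h2 using 1
      refine ext_perm e ?_ ?_ ?_ <;> simp [E_apply]
    · have h2 := hI.2 _ hzB (e 1) (e 2) (by decide) (by simp [E_apply]; omega)
      convert h2 using 1
      refine ext_perm e ?_ ?_ ?_ <;> simp [E_apply]
    · convert hzB using 1
      refine ext_perm e ?_ ?_ ?_ <;> simp [E_apply]
      omega
  · rw [forall_perm e]
    simp [E, e]
    omega

end Groth.Agent.HilbPar45.Slices
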