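import Groth.Agent.Lib.HilbPar45.Column

/-!
# Parity of the tangent space dimension of monomial ideals in three variables
-/

set_option autoImplicit false

noncomputable section

namespace Groth.Agent.HilbPar45.Sums

open MvPolynomial W4c1hilbpn Groth.Agent.H15.HilbTgt.Basic Groth.Agent.H15.HilbTgt.Comp
open Groth.Agent.HilbPar45.Column

universe u

variable {k : Type u} [Field k] {I : Ideal (MvPolynomial (Fin 3) k)} {N : ℕ}

theorem A_inj (e : Fin 3 ≃ Fin 3) {a b c a' b' c' : ℤ} (h : A e a b c = A e a' b' c') :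
    a = a' ∧ b = b' ∧ c = c' := by
  have h0 := congrFun h (e 0)
  have h1 := congrFun h (e 1)
  have h2 := congrFun h (e 2)
  simp [A_apply] at h0 h1 h2
  exact ⟨h0, h1, h2⟩

theorem finrank_colPos (hI : IsMonomial I) [Module.Finite k (MvPolynomial (Fin 3) k ⧸ I)] (hN : Bound I N)
    (e : Fin 3 ≃ Fin 3) (a b : ℕ) :
    Module.finrank k ↥(⨆ α : {α : Fin 3 → ℤ // α (e 0) = (a : ℤ) ∧ α (e 1) = (b : ℤ)}, tPiece I α.1) =
      ∑ t ∈ Finset.range N, Module.finrank k ↥(Coef I (A e a b (-((t : ℤ) + 1)))) := by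
  classical
  let f : ℕ → (Fin 3 → ℤ) := fun t => A e a b (-((t : ℤ) + 1))
  have hf : Set.InjOn f ↑(Finset.range N) := fun t _ t' _ h => by have := (A_inj e h).2.2; omega
  rw [finrank_iSup hI (fun α => α (e 0) = (a : ℤ) ∧ α (e 1) = (b : ℤ)) ((Finset.range N).image f)]
  · rw [Finset.sum_image hf]
  · intro α hα
    obtain ⟨t, -, rfl⟩ := Finset.mem_image.1 hα
    simp [f, A_apply]
  · intro α hα hns x
    by_cases hc : α (e 2) < 0
    · revert x
      rw [← A_eq e α, hα.1, hα.2]
      refine fun x => coef_pos_eq_zero e hN a b _ ?_ x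
      by_contra hlt
      refine hns (Finset.mem_image.2 ⟨(-α (e 2) - 1).toNat, Finset.mem_range.2 (by omega), ?_⟩)
      show A e a b _ = α
      conv_rhs => rw [← A_eq e α, hα.1, hα.2]
      congr 1
      omega
    · exact coef_eq_zero_of_nonneg ((forall_perm e).2 ⟨by omega, by omega, by omega⟩) x

theorem finrank_colNeg (hI : IsMonomial I) [Module.Finite k (MvPolynomial (Fin 3) k ⧸ I)] (hN : Bound I N)
    (e : Fin 3 ≃ Fin 3) (a b : ℕ) :
    Module.finrank k ↥(⨆ α : {α : Fin 3 → ℤ // α (e 0) = -(a : ℤ) - 1 ∧ α (e 1) = -(b : ℤ) - 1},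
        tPiece I α.1) =
      ∑ t ∈ Finset.range N, Module.finrank k ↥(Coef I (A e (-((a : ℤ) + 1)) (-((b : ℤ) + 1)) t)) := by
  classical
  let f : ℕ → (Fin 3 → ℤ) := fun t => A e (-((a : ℤ) + 1)) (-((b : ℤ) + 1)) t
  have hf : Set.InjOn f ↑(Finset.range N) := fun t _ t' _ h => by have := (A_inj e h).2.2; omega
  rw [finrank_iSup hI (fun α => α (e 0) = -(a : ℤ) - 1 ∧ α (e 1) = -(b : ℤ) - 1) ((Finset.range N).image f)]
  · rw [Finset.sum_image hf]
  · intro α hα
    obtain ⟨t, -, rfl⟩ := Finset.mem_image.1 hα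
    simp [f, A_apply]
    omega
  · intro α hα hns x
    by_cases hc : 0 ≤ α (e 2)
    · revert x
      rw [← A_eq e α, hα.1, hα.2, show -(a : ℤ) - 1 = -((a : ℤ) + 1) by ring,
        show -(b : ℤ) - 1 = -((b : ℤ) + 1) by ring]
      refine fun x => coef_neg_eq_zero e hN a b _ ?_ x
      by_contra hlt
      refine hns (Finset.mem_image.2 ⟨(α (e 2)).toNat, Finset.mem_range.2 (by omega), ?_⟩)
      show A e _ _ _ = α
      conv_rhs => rw [← A_eq e α, hα.1, hα.2]
      congr 1 <;> omega
    · exact coef_eq_zero_of_neg (by norm_num) hI ((forall_perm e).2 ⟨by omega, by omega, by omega⟩) x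

theorem finrank_quot (hI : IsMonomial I) [Module.Finite k (MvPolynomial (Fin 3) k ⧸ I)] (hN : Bound I N)
    (e : Fin 3 ≃ Fin 3) :
    Module.finrank k (MvPolynomial (Fin 3) k ⧸ I) =
      ∑ P ∈ Finset.range N ×ˢ Finset.range N, st e I P := by
  classical
  let T : Finset (ℕ × ℕ × ℕ) := ((Finset.range N ×ˢ (Finset.range N ×ˢ Finset.range N))).filter
    fun x => x.2.2 < st e I (x.1, x.2.1)
  let m : ↥T → (Fin 3 →₀ ℕ) := fun x => E e x.1.1 x.1.2.1 x.1.2.2
  have hm : ∀ x, m x ∉ exps I := fun x => by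
    show E e (x.1.1, x.1.2.1).1 (x.1.1, x.1.2.1).2 x.1.2.2 ∉ exps I
    rw [st_iff e hN]
    have := (Finset.mem_filter.1 x.2).2
    omega
  have hsurj : ∀ γ, γ ∉ exps I → ∃ x, m x = γ := fun γ hγ => by
    refine ⟨⟨(γ (e 0), γ (e 1), γ (e 2)), Finset.mem_filter.2 ⟨?_, ?_⟩⟩, E_eq e γ⟩
    · simp [hN γ hγ]
    · show γ (e 2) < st e I (γ (e 0), γ (e 1))
      by_contra h
      exact hγ (by rw [← E_eq e γ]; exact (st_iff e hN (_, _) _).2 (by omega))
  have hinj : Function.Injective m := fun x y h => by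
    have h0 := DFunLike.congr_fun h (e 0)
    have h1 := DFunLike.congr_fun h (e 1)
    have h2 := DFunLike.congr_fun h (e 2)
    simp [m, E_apply] at h0 h1 h2
    exact Subtype.ext (Prod.ext h0 (Prod.ext h1 h2))
  let L : (MvPolynomial (Fin 3) k ⧸ I) →ₗ[k] (↥T → k) := LinearMap.pi fun x => qc hI (m x)
  have hbij : Function.Bijective L := by
    refine ⟨(injective_iff_map_eq_zero L).2 fun q hq => eq_zero_of_qc hI q fun γ hγ => ?_, fun w => ?_⟩
    · obtain ⟨x, rfl⟩ := hsurj γ hγ
      exact congrFun hq x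
    · refine ⟨Ideal.Quotient.mk I (∑ x, monomial (m x) (w x)), funext fun x => ?_⟩
      show qc hI (m x) _ = w x
      rw [qc_mk hI (hm x), coeff_sum, Finset.sum_eq_single x (fun y _ hy => by
        rw [coeff_monomial, if_neg fun h => hy (hinj h)]) (fun h => absurd (Finset.mem_univ x) h),
        coeff_monomial, if_pos rfl]
  rw [(LinearEquiv.ofBijective L hbij).finrank_eq, Module.finrank_pi, Fintype.card_coe]
  show (Finset.filter _ _).card = _
  rw [Finset.card_filter, Finset.sum_product, Finset.sum_product]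
  refine Finset.sum_congr rfl fun p _ => ?_
  rw [Finset.sum_product]
  refine Finset.sum_congr rfl fun q _ => ?_
  dsimp only
  rw [← Finset.card_filter]
  have := st_le e hN (p, q)
  rw [show (Finset.range N).filter (fun z => z < st e I (p, q)) = Finset.range (st e I (p, q)) by
    ext z; simp; omega, Finset.card_range]

theorem finrank_sigPos (hI : IsMonomial I) [Module.Finite k (MvPolynomial (Fin 3) k ⧸ I)] (hN : Bound I N)
    (e : Fin 3 ≃ Fin 3) :
    Module.finrank k ↥(sigPiece I {e 2}) =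
      ∑ P ∈ Finset.range N ×ˢ Finset.range N, ∑ t ∈ Finset.range N,
        Module.finrank k ↥(Coef I (A e P.1 P.2 (-((t : ℤ) + 1)))) := by
  classical
  let f : (ℕ × ℕ) × ℕ → (Fin 3 → ℤ) := fun x => A e x.1.1 x.1.2 (-((x.2 : ℤ) + 1))
  have hf : Set.InjOn f ↑((Finset.range N ×ˢ Finset.range N) ×ˢ Finset.range N) := fun x _ y _ h => by
    obtain ⟨h0, h1, h2⟩ := A_inj e h
    exact Prod.ext (Prod.ext (by omega) (by omega)) (by omega)
  show Module.finrank k ↥(⨆ α : {α : Fin 3 → ℤ // ∀ i, α i < 0 ↔ i ∈ ({e 2} : Set (Fin 3))}, tPiece I α.1) = _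
  rw [finrank_iSup hI (fun α => ∀ i, α i < 0 ↔ i ∈ ({e 2} : Set (Fin 3)))
    (((Finset.range N ×ˢ Finset.range N) ×ˢ Finset.range N).image f)]
  · rw [Finset.sum_image hf, Finset.sum_product]
  · intro α hα
    obtain ⟨x, -, rfl⟩ := Finset.mem_image.1 hα
    rw [forall_perm e]
    simp [f, A_apply]
    omega
  · intro α hα hns x
    obtain ⟨h0, h1, h2⟩ := (forall_perm e).1 hα
    simp at h0 h1 h2
    obtain ⟨a, ha⟩ : ∃ a : ℕ, α (e 0) = a := ⟨(α (e 0)).toNat, by omega⟩
    obtain ⟨b, hb⟩ : ∃ b : ℕ, α (e 1) = b := ⟨(α (e 1)).toNat, by omega⟩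
    revert x
    rw [← A_eq e α, ha, hb]
    intro x
    by_cases hc : α (e 2) < -(N : ℤ)
    · exact coef_pos_eq_zero e hN a b _ hc x
    · obtain ⟨t, ht⟩ : ∃ t : ℕ, α (e 2) = -((t : ℤ) + 1) := ⟨(-α (e 2) - 1).toNat, by omega⟩
      revert x
      rw [ht]
      intro x
      refine (posEquiv e hN a b t).injective ?_
      rw [map_zero]
      refine Subtype.ext (funext fun P => ((posEquiv e hN a b t) x).2.1 P fun h => hns ?_)
      have h1' := ((Planar.Data.mem_X0 _).1 h).1
      rw [Planar.Data.hG] at h1'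
      have h1'' : 0 ≤ (st e I P : ℤ) - (t + 1) := h1'
      have h3 : (st e I P : ℤ) - (t + 1) < (st e I (P.1 + a, P.2 + b) : ℤ) := ((Planar.Data.mem_X0 _).1 h).2
      have hz := st_zero e hN (P.1 + a, P.2 + b)
      simp only at hz
      refine Finset.mem_image.2 ⟨((a, b), t), ?_, ?_⟩
      · simp only [Finset.mem_product, Finset.mem_range]
        omega
      · show A e a b (-((t : ℤ) + 1)) = α
        conv_rhs => rw [← A_eq e α, ha, hb, ht]

theorem finrank_sigNeg (hI : IsMonomial I) [Module.Finite k (MvPolynomial (Fin 3) k ⧸ I)] (hN : Bound I N)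
    (e : Fin 3 ≃ Fin 3) :
    Module.finrank k ↥(sigPiece I ({e 2}ᶜ : Set (Fin 3))) =
      ∑ P ∈ Finset.range N ×ˢ Finset.range N, ∑ t ∈ Finset.range N,
        Module.finrank k ↥(Coef I (A e (-((P.1 : ℤ) + 1)) (-((P.2 : ℤ) + 1)) t)) := by
  classical
  let f : (ℕ × ℕ) × ℕ → (Fin 3 → ℤ) := fun x => A e (-((x.1.1 : ℤ) + 1)) (-((x.1.2 : ℤ) + 1)) x.2
  have hf : Set.InjOn f ↑((Finset.range N ×ˢ Finset.range N) ×ˢ Finset.range N) := fun x _ y _ h => by
    obtain ⟨h0, h1, h2⟩ := A_inj e h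
    exact Prod.ext (Prod.ext (by omega) (by omega)) (by omega)
  show Module.finrank k ↥(⨆ α : {α : Fin 3 → ℤ // ∀ i, α i < 0 ↔ i ∈ ({e 2}ᶜ : Set (Fin 3))}, tPiece I α.1) = _
  rw [finrank_iSup hI (fun α => ∀ i, α i < 0 ↔ i ∈ ({e 2}ᶜ : Set (Fin 3)))
    (((Finset.range N ×ˢ Finset.range N) ×ˢ Finset.range N).image f)]
  · rw [Finset.sum_image hf, Finset.sum_product]
  · intro α hα
    obtain ⟨x, -, rfl⟩ := Finset.mem_image.1 hα
    rw [forall_perm e]
    simp [f, A_apply]
    omega
  · intro α hα hns x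
    obtain ⟨h0, h1, h2⟩ := (forall_perm e).1 hα
    simp at h0 h1 h2
    obtain ⟨a, ha⟩ : ∃ a : ℕ, α (e 0) = -((a : ℤ) + 1) := ⟨(-α (e 0) - 1).toNat, by omega⟩
    obtain ⟨b, hb⟩ : ∃ b : ℕ, α (e 1) = -((b : ℤ) + 1) := ⟨(-α (e 1) - 1).toNat, by omega⟩
    revert x
    rw [← A_eq e α, ha, hb]
    intro x
    by_cases hc : (N : ℤ) ≤ α (e 2)
    · exact coef_neg_eq_zero e hN a b _ hc x
    · obtain ⟨t, ht⟩ : ∃ t : ℕ, α (e 2) = t := ⟨(α (e 2)).toNat, by omega⟩
      by_cases hab : a < N ∧ b < N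
      · refine absurd (Finset.mem_image.2 ⟨((a, b), t), ?_, ?_⟩) hns
        · simp only [Finset.mem_product, Finset.mem_range]
          omega
        · show A e (-((a : ℤ) + 1)) (-((b : ℤ) + 1)) t = α
          conv_rhs => rw [← A_eq e α, ha, hb, ht]
      · have hd := (dat e hN a b t).duality (k := k)
        have hX : ∀ Q : ℕ × ℕ, st e I (Q.1 + a, Q.2 + b) = 0 := fun Q =>
          st_zero e hN _ (by dsimp only; omega)
        have hnone : ∀ P ∈ (dat e hN a b t).G, ∀ Q, ¬ (dat e hN a b t).g P < (dat e hN a b t).f Q := by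
          intro P hP Q h
          rw [Planar.Data.hG] at hP
          have h' : (dat e hN a b t).g P < (st e I (Q.1 + a, Q.2 + b) : ℤ) := h
          rw [hX Q] at h'
          omega
        have e0 : (dat e hN a b t).X0 = ∅ := Finset.eq_empty_of_forall_notMem fun P h =>
          hnone P (Finset.mem_filter.1 h).1 _ (Finset.mem_filter.1 h).2
        have e1 : (dat e hN a b t).X1 = ∅ := Finset.eq_empty_of_forall_notMem fun P h =>
          hnone P (Finset.mem_filter.1 h).1 _ (Finset.mem_filter.1 h).2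
        have e1' : (dat e hN a b t).Y1 = ∅ := Finset.eq_empty_of_forall_notMem fun P h =>
          hnone P (Finset.mem_filter.1 h).1 _ (Finset.mem_filter.1 h).2
        have e2 : (dat e hN a b t).X2 = ∅ := Finset.eq_empty_of_forall_notMem fun P h =>
          hnone P (Finset.mem_filter.1 h).1 _ (Finset.mem_filter.1 h).2
        have hV : (dat e hN a b t).V k = ⊥ := (Submodule.eq_bot_iff _).2 fun u hu =>
          funext fun P => hu.1 P (by simp [e0])
        have hVz : Module.finrank k ↥((dat e hN a b t).V k) = 0 := by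
          rw [hV]
          exact finrank_bot k _
        simp only [e0, e1, e1', e2, Finset.card_empty, hVz] at hd
        have hAnn : Module.finrank k ↥((dat e hN a b t).Ann k) = 0 := by omega
        rw [Submodule.finrank_eq_zero] at hAnn
        revert x
        rw [ht]
        intro x
        refine (negEquiv e hN a b t).injective ?_
        rw [map_zero]
        refine Subtype.ext ?_
        exact (Submodule.eq_bot_iff _).1 hAnn _ ((negEquiv e hN a b t) x).2

theorem sig_duality (hI : IsMonomial I) [Module.Finite k (MvPolynomial (Fin 3) k ⧸ I)] (e : Fin 3 ≃ Fin 3) :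
    Module.finrank k ↥(sigPiece I {e 2}) =
      Module.finrank k ↥(sigPiece I ({e 2}ᶜ : Set (Fin 3))) + Module.finrank k (MvPolynomial (Fin 3) k ⧸ I) := by
  obtain ⟨N, hN⟩ := exists_bound hI
  rw [finrank_sigPos hI hN e, finrank_sigNeg hI hN e, finrank_quot hI hN e, ← Finset.sum_add_distrib]
  refine Finset.sum_congr rfl fun P _ => ?_
  rw [coef_duality e hN P.1 P.2, add_comm]

theorem parity (hI : IsMonomial I) [Module.Finite k (MvPolynomial (Fin 3) k ⧸ I)] :
    Module.finrank k (Tgt I) % 2 = Module.finrank k (MvPolynomial (Fin 3) k ⧸ I) % 2 := by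
  classical
  have := fun α => finite_coef hI α
  let S : (Fin 3 → ℤ) → Finset (Fin 3) := fun α => Finset.univ.filter fun i => α i < 0
  have hSig : ∀ M : Finset (Fin 3), Module.finrank k ↥(sigPiece I (M : Set (Fin 3))) =
      ∑ α ∈ (degs hI).filter fun α => S α = M, Module.finrank k ↥(Coef I α) := fun M => by
    refine finrank_iSup hI (fun α => ∀ i, α i < 0 ↔ i ∈ (M : Set (Fin 3))) _ (fun α hα i => ?_) ?_
    · rw [← (Finset.mem_filter.1 hα).2]
      simp [S]
    · intro α hα hns c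
      refine eq_zero_of_notMem_degs hI (fun h => hns (Finset.mem_filter.2 ⟨h, ?_⟩)) c
      ext i
      simpa [S] using hα i
  have htot : Module.finrank k (Tgt I) = ∑ M : Finset (Fin 3), Module.finrank k ↥(sigPiece I (M : Set (Fin 3))) := by
    simp only [hSig]
    rw [Finset.sum_fiberwise, ← finrank_top k (Tgt I),
      ← finrank_iSup hI (fun _ => True) (degs hI) (fun _ _ => trivial)
        (fun α _ h c => eq_zero_of_notMem_degs hI h c)]
    refine congrArg (fun W : Submodule k (Tgt I) => Module.finrank k ↥W) ?_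
    rw [iSup_subtype]
    simp [iSup_tPiece_eq_top hI]
  have h3 : ∀ i, Module.finrank k ↥(sigPiece I (({i} : Finset (Fin 3)) : Set (Fin 3))) =
      Module.finrank k ↥(sigPiece I ((({i} : Finset (Fin 3))ᶜ : Finset (Fin 3)) : Set (Fin 3))) +
        Module.finrank k (MvPolynomial (Fin 3) k ⧸ I) := fun i => by
    have h := sig_duality hI (Equiv.swap i 2)
    rw [Equiv.swap_apply_right] at h
    rw [Finset.coe_singleton, Finset.coe_compl, Finset.coe_singleton]
    exact h
  have z : ∀ M : Finset (Fin 3), M = ∅ ∨ M = Finset.univ →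
      Module.finrank k ↥(sigPiece I (M : Set (Fin 3))) = 0 := fun M hM => by
    rw [hSig]
    refine Finset.sum_eq_zero fun α hα => ?_
    have hS := (Finset.mem_filter.1 hα).2
    have hz : ∀ c : ↥(Coef I α), c = 0 := by
      rcases hM with rfl | rfl
      · refine fun c => coef_eq_zero_of_nonneg (fun i => ?_) c
        by_contra hlt
        exact Finset.notMem_empty i (hS ▸ Finset.mem_filter.2 ⟨Finset.mem_univ _, by omega⟩)
      · refine fun c => coef_eq_zero_of_neg (by norm_num) hI (fun i => ?_) c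
        have hmem : i ∈ S α := hS.symm ▸ Finset.mem_univ i
        exact (Finset.mem_filter.1 hmem).2
    have : Subsingleton ↥(Coef I α) := ⟨fun a b => (hz a).trans (hz b).symm⟩
    exact Module.finrank_zero_of_subsingleton
  have huniv : (Finset.univ : Finset (Finset (Fin 3))) = {∅, {0}, {1}, {2}, {0}ᶜ, {1}ᶜ, {2}ᶜ, Finset.univ} := by
    decide
  rw [htot, huniv]
  repeat rw [Finset.sum_insert (by decide)]
  rw [Finset.sum_singleton, h3 0, h3 1, h3 2, z ∅ (Or.inl rfl), z Finset.univ (Or.inr rfl)]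
  omega

end Groth.Agent.HilbPar45.Sums
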