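import Groth.Agent.Lib.HilbPar45.Bound
import Groth.Agent.Lib.HilbPar45.Sums
import Groth.Agent.H15.HilbTgt.Pow
import Mathlib.Algebra.Polynomial.Monic
import Mathlib.Algebra.Polynomial.BigOperators
import Mathlib.RingTheory.MvPolynomial.Homogeneous
import Mathlib.Algebra.MvPolynomial.Funext

/-!
# An upper bound for the tangent space at an ideal containing a monic polynomial of low degree
-/

set_option autoImplicit false

noncomputable section

namespace Groth.Agent.HilbPar45.Tgt

open W4c1hilbpn

universe u v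

variable {k : Type u} [Field k]

/-- The bound for an ideal containing a monic polynomial. -/
theorem finrank_le_of_monic {S : Type u} [CommRing S] [Algebra k S] [Algebra (MvPolynomial (Fin 2) k) S]
    [IsScalarTower k (MvPolynomial (Fin 2) k) S] (x : S)
    (hx : Function.Surjective (Polynomial.aeval (R := MvPolynomial (Fin 2) k) x))
    (I : Ideal S) [Module.Finite k (S ⧸ I)] (f : Polynomial (MvPolynomial (Fin 2) k)) (hf : f.Monic)
    (hfI : Polynomial.aeval x f ∈ I) :
    Module.finrank k (↥I →ₗ[S] S ⧸ I) ≤ (2 * f.natDegree + 1) * Module.finrank k (S ⧸ I) := by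
  let p := f.natDegree
  let R := MvPolynomial (Fin 2) k
  let F : Submodule R S := Submodule.span R (Set.range fun i : Fin p => x ^ (i : ℕ))
  have hdiv : ∀ s : S, ∃ q : S, s - Polynomial.aeval x f * q ∈ F := by
    intro s
    obtain ⟨P, rfl⟩ := hx s
    refine ⟨Polynomial.aeval x (P /ₘ f), ?_⟩
    have e : Polynomial.aeval x P - Polynomial.aeval x f * Polynomial.aeval x (P /ₘ f) =
        Polynomial.aeval x (P %ₘ f) := by
      have h := congrArg (Polynomial.aeval x) (Polynomial.modByMonic_add_div P f)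
      rw [map_add, map_mul] at h
      linear_combination -h
    rw [e, Polynomial.aeval_eq_sum_range]
    refine sum_mem fun i _ => ?_
    by_cases hi : i < p
    · exact Submodule.smul_mem _ _ (Submodule.subset_span ⟨⟨i, hi⟩, rfl⟩)
    · have hc : (P %ₘ f).coeff i = 0 := by
        refine Polynomial.coeff_eq_zero_of_degree_lt ((Polynomial.degree_modByMonic_lt P hf).trans_le ?_)
        exact Polynomial.degree_le_natDegree.trans (Nat.cast_le.2 (not_lt.1 hi))
      rw [hc, zero_smul]
      exact zero_mem _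
  let π : ↥F →ₗ[R] (S ⧸ I) := (Ideal.Quotient.mkₐ R I).toLinearMap ∘ₗ F.subtype
  have hπ : Function.Surjective π := by
    intro y
    obtain ⟨s, rfl⟩ := Ideal.Quotient.mk_surjective y
    obtain ⟨q, hq⟩ := hdiv s
    refine ⟨⟨_, hq⟩, ?_⟩
    show Ideal.Quotient.mk I (s - Polynomial.aeval x f * q) = Ideal.Quotient.mk I s
    rw [map_sub, Ideal.Quotient.eq_zero_iff_mem.2 (I.mul_mem_right _ hfI), sub_zero]
  let g : Fin p → ↥F := fun i => ⟨x ^ (i : ℕ), Submodule.subset_span ⟨i, rfl⟩⟩
  have hg : Submodule.span R (Set.range g) = ⊤ := by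
    refine Submodule.map_injective_of_injective F.subtype_injective ?_
    rw [Submodule.map_span, Submodule.map_top, Submodule.range_subtype, ← Set.range_comp]
    rfl
  have hm : Submodule.span R (Set.range (π ∘ g)) = ⊤ := by
    rw [Set.range_comp, Submodule.span_image, hg, Submodule.map_top, LinearMap.range_eq_top.2 hπ]
  obtain ⟨hfin, hle⟩ :=
    Bound.finrank_hom_submodule_le (k := k) (M := S ⧸ I) π hπ g hg (π ∘ g) hm
  have hker : ∀ z : ↥(LinearMap.ker π), ((z : ↥F) : S) ∈ I := fun z => Ideal.Quotient.eq_zero_iff_mem.1 z.2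
  let θ : (↥I →ₗ[S] S ⧸ I) →ₗ[k] (S ⧸ I) × (↥(LinearMap.ker π) →ₗ[R] S ⧸ I) :=
    { toFun := fun φ => (φ ⟨_, hfI⟩,
        { toFun := fun z => φ ⟨((z : ↥F) : S), hker z⟩
          map_add' := fun z z' => by
            rw [← map_add]
            rfl
          map_smul' := fun r z => by
            have e : (⟨(((r • z : ↥(LinearMap.ker π)) : ↥F) : S), hker (r • z)⟩ : ↥I) =
                algebraMap R S r • ⟨((z : ↥F) : S), hker z⟩ := Subtype.ext (Algebra.smul_def r _)
            rw [e, map_smul, RingHom.id_apply, algebraMap_smul] })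
      map_add' := fun _ _ => rfl
      map_smul' := fun _ _ => rfl }
  have hθ : Function.Injective θ := by
    refine (injective_iff_map_eq_zero θ).2 fun φ hφ => LinearMap.ext fun i => ?_
    have h1 : φ ⟨_, hfI⟩ = 0 := congrArg Prod.fst hφ
    obtain ⟨q, hq⟩ := hdiv (i : S)
    have hqI : (i : S) - Polynomial.aeval x f * q ∈ I := sub_mem i.2 (I.mul_mem_right _ hfI)
    have h2 : φ ⟨_, hqI⟩ = 0 := LinearMap.congr_fun (congrArg Prod.snd hφ)
      ⟨⟨_, hq⟩, LinearMap.mem_ker.2 (Ideal.Quotient.eq_zero_iff_mem.2 hqI)⟩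
    have e : i = (⟨_, hqI⟩ : ↥I) + q • (⟨_, hfI⟩ : ↥I) := Subtype.ext (by simp [mul_comm q])
    rw [e, map_add, map_smul, h1, h2, smul_zero, add_zero, LinearMap.zero_apply]
  refine (LinearMap.finrank_le_finrank_of_injective hθ).trans ?_
  rw [Module.finrank_prod]
  calc Module.finrank k (S ⧸ I) + Module.finrank k (↥(LinearMap.ker π) →ₗ[R] S ⧸ I)
      ≤ Module.finrank k (S ⧸ I) + (p * Module.finrank k (S ⧸ I) + p * Module.finrank k (S ⧸ I)) :=
        Nat.add_le_add_left hle _
    _ = (2 * p + 1) * Module.finrank k (S ⧸ I) := by ring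

open MvPolynomial in
/-- The bound in coordinates adapted to a vector with nonzero first entry. -/
theorem tgt_le (I : Ideal (MvPolynomial (Fin 3) k)) [Module.Finite k (MvPolynomial (Fin 3) k ⧸ I)]
    (v : Fin 3 → k) (hv : v 0 ≠ 0) (f : MvPolynomial (Fin 3) k) (hfI : f ∈ I) (e : ℕ)
    (hdeg : f.totalDegree ≤ e) (htop : eval v (homogeneousComponent e f) ≠ 0) :
    Module.finrank k (Tgt I) ≤ (2 * e + 1) * Module.finrank k (MvPolynomial (Fin 3) k ⧸ I) := by
  classical
  let yz : Fin 2 → MvPolynomial (Fin 3) k :=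
    ![X 1 - C (v 1 / v 0) * X 0, X 2 - C (v 2 / v 0) * X 0]
  letI alg : Algebra (MvPolynomial (Fin 2) k) (MvPolynomial (Fin 3) k) := (aeval yz).toRingHom.toAlgebra
  haveI : IsScalarTower k (MvPolynomial (Fin 2) k) (MvPolynomial (Fin 3) k) :=
    IsScalarTower.of_algebraMap_eq fun a => ((aeval yz).commutes a).symm
  let x : MvPolynomial (Fin 3) k := C (1 / v 0) * X 0
  let L : Fin 3 → Polynomial (MvPolynomial (Fin 2) k) :=
    ![Polynomial.C (C (v 0)) * Polynomial.X, Polynomial.C (X 0) + Polynomial.C (C (v 1)) * Polynomial.X,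
      Polynomial.C (X 1) + Polynomial.C (C (v 2)) * Polynomial.X]
  have hC : ∀ a : k, algebraMap (MvPolynomial (Fin 2) k) (MvPolynomial (Fin 3) k) (C a) = C a := fun a =>
    (aeval yz).commutes a
  have hX : ∀ j, algebraMap (MvPolynomial (Fin 2) k) (MvPolynomial (Fin 3) k) (X j) = yz j := fun j =>
    aeval_X yz j
  have hL : ∀ P : MvPolynomial (Fin 3) k, Polynomial.aeval x (aeval L P) = P := by
    intro P
    induction P using MvPolynomial.induction_on with
    | C a =>
      rw [aeval_C, IsScalarTower.algebraMap_apply k (MvPolynomial (Fin 2) k) (Polynomial (MvPolynomial (Fin 2) k)),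
        Polynomial.algebraMap_eq, Polynomial.aeval_C]
      exact hC a
    | add p q hp hq => rw [map_add, map_add, hp, hq]
    | mul_X p i hp =>
      rw [map_mul, map_mul, hp, aeval_X]
      congr 1
      fin_cases i
      · simp [L, x, hC]
        rw [← mul_assoc, ← map_mul, mul_inv_cancel₀ hv, map_one, one_mul]
      · simp [L, x, hC, hX, yz]
        rw [← mul_assoc, ← map_mul, div_eq_mul_inv, map_mul]
        ring
      · simp [L, x, hC, hX, yz]
        rw [← mul_assoc, ← map_mul, div_eq_mul_inv, map_mul]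
        ring
  have hLdeg : ∀ i, (L i).natDegree ≤ 1 := by
    intro i
    fin_cases i <;> simp only [L, Fin.zero_eta, Fin.mk_one, Fin.reduceFinMk, Matrix.cons_val_zero,
      Matrix.cons_val_one, Matrix.cons_val] <;> compute_degree
  have hLone : ∀ i, (L i).coeff 1 = C (v i) := by
    intro i
    fin_cases i <;> simp [L, Polynomial.coeff_C]
  have hmon : ∀ β : Fin 3 →₀ ℕ, (∏ i, L i ^ β i).natDegree ≤ β.degree ∧
      (∏ i, L i ^ β i).coeff β.degree = C (∏ i, v i ^ β i) := by
    intro β
    have h1 : ∀ i, (L i ^ β i).natDegree ≤ β i := fun i => by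
      have := Polynomial.natDegree_pow_le_of_le (β i) (hLdeg i)
      rwa [mul_one] at this
    have h2 : ∀ i, (L i ^ β i).coeff (β i) = C (v i ^ β i) := fun i => by
      have := Polynomial.coeff_pow_of_natDegree_le (m := β i) (hLdeg i)
      rw [mul_one] at this
      rw [this, hLone, map_pow]
    have hsum : β.degree = β 0 + β 1 + β 2 := by rw [Finsupp.degree_eq_sum, Fin.sum_univ_three]
    have h01 := Polynomial.natDegree_mul_le_of_le (h1 0) (h1 1)
    rw [hsum, Fin.prod_univ_three, Fin.prod_univ_three]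
    refine ⟨Polynomial.natDegree_mul_le_of_le h01 (h1 2), ?_⟩
    rw [Polynomial.coeff_mul_add_eq_of_natDegree_le h01 (h1 2),
      Polynomial.coeff_mul_add_eq_of_natDegree_le (h1 0) (h1 1), h2, h2, h2, map_mul, map_mul]
  have hexp : ∀ β ∈ f.support, β.degree ≤ e := fun β hβ => by
    refine le_trans ?_ hdeg
    have := le_totalDegree hβ
    simpa [Finsupp.degree, Finsupp.sum] using this
  let F := aeval L f
  have hFsum : F = ∑ β ∈ f.support, Polynomial.C (C (coeff β f)) * ∏ i, L i ^ β i := by
    show aeval L f = _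
    rw [aeval_def, eval₂_eq']
    rfl
  have hFdeg : F.natDegree ≤ e := by
    rw [hFsum]
    refine Polynomial.natDegree_sum_le_of_forall_le _ _ fun β hβ => ?_
    exact (Polynomial.natDegree_C_mul_le _ _).trans ((hmon β).1.trans (hexp β hβ))
  have hFtop : F.coeff e = C (eval v (homogeneousComponent e f)) := by
    rw [hFsum, Polynomial.finsetSum_coeff, homogeneousComponent_apply, map_sum, map_sum, Finset.sum_filter]
    refine Finset.sum_congr rfl fun β hβ => ?_
    rw [Polynomial.coeff_C_mul]
    split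
    next h =>
      rw [← h, (hmon β).2, ← map_mul, eval_monomial, Finsupp.prod_fintype _ _ (fun i => pow_zero _)]
    next h =>
      rw [Polynomial.coeff_eq_zero_of_natDegree_lt
        (lt_of_le_of_lt (hmon β).1 (lt_of_le_of_ne (hexp β hβ) h)), mul_zero]
  let c := eval v (homogeneousComponent e f)
  let G := Polynomial.C (C c⁻¹) * F
  have hGdeg : G.natDegree ≤ e := (Polynomial.natDegree_C_mul_le _ _).trans hFdeg
  have hGtop : G.coeff e = 1 := by
    rw [Polynomial.coeff_C_mul, hFtop, ← map_mul, inv_mul_cancel₀ htop, map_one]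
  have hGm : G.Monic := Polynomial.monic_of_natDegree_le_of_coeff_eq_one e hGdeg hGtop
  have hGI : Polynomial.aeval x G ∈ I := by
    rw [map_mul, hL]
    exact I.mul_mem_left _ hfI
  refine (finrank_le_of_monic (k := k) x (fun P => ⟨aeval L P, hL P⟩) I G hGm hGI).trans ?_
  exact Nat.mul_le_mul_right _ (by omega)

/-- The powers of the irrelevant ideal. -/
abbrev mR (k : Type u) [Field k] (r : ℕ) : Ideal (MvPolynomial (Fin 3) k) :=
  (Ideal.span (Set.range (MvPolynomial.X : Fin 3 → MvPolynomial (Fin 3) k))) ^ r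

open Groth.Agent.HilbPar45 Groth.Agent.H15.HilbTgt in
theorem finrank_quot_pow (r : ℕ) :
    Module.finrank k (MvPolynomial (Fin 3) k ⧸ mR k r) = (r + 2).choose 3 := by
  haveI : Module.Finite k (MvPolynomial (Fin 3) k ⧸ mR k r) := Pow.finite_quot (k := k) (n := 3) r
  have h : Module.finrank k ↥(sigPiece (mR k r) {2}) = Module.finrank k ↥(sigPiece (mR k r) ({2}ᶜ : Set (Fin 3))) +
      Module.finrank k (MvPolynomial (Fin 3) k ⧸ mR k r) :=
    Sums.sig_duality (Pow.isMonomial (k := k) (n := 3) r) (Equiv.refl _)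
  rw [(Pow.finrank_three r 2).1, (Pow.finrank_three r 2).2.1,
    show (r + 3).choose 4 = (r + 2).choose 3 + (r + 2).choose 4 from Nat.choose_succ_succ' (r + 2) 3] at h
  omega

open Groth.Agent.H15.HilbTgt MvPolynomial in
/-- An ideal of small colength contains a nonzero polynomial of small degree. -/
theorem exists_low_degree (I : Ideal (MvPolynomial (Fin 3) k)) [Module.Finite k (MvPolynomial (Fin 3) k ⧸ I)]
    (r : ℕ) (hd : Module.finrank k (MvPolynomial (Fin 3) k ⧸ I) ≤ (r + 2).choose 3) :
    ∃ f ∈ I, f ≠ 0 ∧ f.totalDegree ≤ r := by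
  haveI : Module.Finite k (MvPolynomial (Fin 3) k ⧸ mR k (r + 1)) := Pow.finite_quot (k := k) (n := 3) (r + 1)
  let W := restrictTotalDegree (Fin 3) k r
  have hW : (r + 3).choose 3 ≤ Module.finrank k ↥W := by
    rw [← finrank_quot_pow (k := k) (r + 1)]
    let g : ↥W →ₗ[k] (MvPolynomial (Fin 3) k ⧸ mR k (r + 1)) :=
      (Ideal.Quotient.mkₐ k _).toLinearMap ∘ₗ W.subtype
    suffices hs : Function.Surjective g by
      have := g.finrank_range_add_finrank_ker
      rw [LinearMap.range_eq_top.2 hs, finrank_top] at this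
      omega
    intro y
    classical
    obtain ⟨P, rfl⟩ := Ideal.Quotient.mk_surjective y
    refine ⟨⟨∑ β ∈ P.support.filter (fun β => β.degree ≤ r), monomial β (coeff β P), ?_⟩, ?_⟩
    · refine sum_mem fun β hβ => ?_
      rw [mem_restrictTotalDegree]
      exact (totalDegree_monomial_le _ _).trans (le_of_eq_of_le
        (by simp [Finsupp.degree, Finsupp.sum]) (Finset.mem_filter.1 hβ).2)
    · show Ideal.Quotient.mk (mR k (r + 1)) (∑ β ∈ P.support.filter (fun β => β.degree ≤ r), monomial β (coeff β P)) =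
        Ideal.Quotient.mk (mR k (r + 1)) P
      conv_rhs => rw [as_sum P, ← Finset.sum_filter_add_sum_filter_not P.support (fun β => β.degree ≤ r)]
      rw [map_add, left_eq_add, Ideal.Quotient.eq_zero_iff_mem]
      refine sum_mem fun β hβ => Basic.monomial_mem ((Pow.mem_exps (r + 1) β).2 ?_) _
      have := (Finset.mem_filter.1 hβ).2
      omega
  let φ : ↥W →ₗ[k] (MvPolynomial (Fin 3) k ⧸ I) := (Ideal.Quotient.mkₐ k I).toLinearMap ∘ₗ W.subtype
  have h1 := φ.finrank_range_add_finrank_ker
  have h2 := Submodule.finrank_le (LinearMap.range φ)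
  have h3 : (r + 3).choose 3 = (r + 2).choose 2 + (r + 2).choose 3 := Nat.choose_succ_succ' (r + 2) 2
  have h4 : 0 < (r + 2).choose 2 := Nat.choose_pos (by omega)
  obtain ⟨w, hw, hne⟩ := Submodule.exists_mem_ne_zero_of_ne_bot
    (p := LinearMap.ker φ) (fun h => by rw [h, finrank_bot] at h1; omega)
  exact ⟨w.1, Ideal.Quotient.eq_zero_iff_mem.1 hw, fun h => hne (Subtype.ext h),
    (mem_restrictTotalDegree _ _ _).1 w.2⟩

open MvPolynomial in
theorem exists_vec [Infinite k] {f : MvPolynomial (Fin 3) k} (hf : f ≠ 0) :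
    ∃ v : Fin 3 → k, v 0 ≠ 0 ∧ eval v (homogeneousComponent f.totalDegree f) ≠ 0 := by
  have h0 : homogeneousComponent f.totalDegree f ≠ 0 := by
    obtain ⟨β, hβ, he⟩ := Finset.exists_mem_eq_sup f.support
      (support_nonempty.2 hf) (fun s => s.sum fun _ n => n)
    intro h
    have := congrArg (coeff β) h
    rw [coeff_homogeneousComponent, coeff_zero, if_pos] at this
    · exact (mem_support_iff.1 hβ) this
    · rw [show f.totalDegree = β.sum fun _ n => n from he]
      simp [Finsupp.degree, Finsupp.sum]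
  by_contra! h
  refine mul_ne_zero (X_ne_zero (0 : Fin 3)) h0 (MvPolynomial.funext fun v => ?_)
  rw [map_mul, map_zero, eval_X]
  by_cases hv : v 0 = 0
  · rw [hv, zero_mul]
  · rw [h v hv, mul_zero]

end Groth.Agent.HilbPar45.Tgt
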